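import Mathlib

/-!
The fusion step for normalisers of groups of symplectic type with a centre of order four: an
elementary abelian 2-subgroup `A` of order at least 64 with an invariant alternating form and all
transvections induced, containing the centralisers of its non-trivial elements in its normaliser, is
normal.
-/

set_option autoImplicit false

namespace Cfsg.Agent.Lib.SympFusion78

open Subgroup

variable {G : Type*} [Group G]

/-- The hypotheses. -/
structure Alt (A : Subgroup G) (B : G → G → ZMod 2) : Prop where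
  sq : ∀ a ∈ A, a * a = 1
  add : ∀ a ∈ A, ∀ a' ∈ A, ∀ c ∈ A, B (a * a') c = B a c + B a' c
  symm : ∀ a ∈ A, ∀ c ∈ A, B a c = B c a
  self : ∀ a ∈ A, B a a = 0
  nondeg : ∀ a ∈ A, a ≠ 1 → ∃ c ∈ A, B a c ≠ 0
  inv : ∀ h ∈ normalizer (A : Set G), ∀ a ∈ A, ∀ c ∈ A, B (h * a * h⁻¹) (h * c * h⁻¹) = B a c

/-- The multiplier of a transvection. -/
def sel (c : ZMod 2) (v : G) : G := if c = 0 then 1 else v

theorem sel_zero (v : G) : sel 0 v = 1 := if_pos rfl

theorem sel_one (v : G) : sel 1 v = v := if_neg one_ne_zero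

/-- Every transvection of the form is induced by the normaliser. -/
def HasTransv (A : Subgroup G) (B : G → G → ZMod 2) : Prop :=
  ∀ v ∈ A, ∃ h ∈ normalizer (A : Set G), ∀ x ∈ A, h * x * h⁻¹ = x * sel (B x v) v

namespace Alt

variable {A : Subgroup G} {B : G → G → ZMod 2} (hB : Alt A B)
include hB

theorem comm {a c : G} (ha : a ∈ A) (hc : c ∈ A) : a * c = c * a := by
  have h := hB.sq _ (mul_mem ha hc)
  have ha' : a⁻¹ = a := inv_eq_of_mul_eq_one_right (hB.sq a ha)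
  have hc' : c⁻¹ = c := inv_eq_of_mul_eq_one_right (hB.sq c hc)
  rw [eq_inv_of_mul_eq_one_left h, mul_inv_rev, ha', hc']

theorem one_left {c : G} (hc : c ∈ A) : B 1 c = 0 := by
  have h := hB.add 1 A.one_mem 1 A.one_mem c hc
  rw [one_mul] at h
  exact left_eq_add.mp h

theorem one_right {a : G} (ha : a ∈ A) : B a 1 = 0 := by
  rw [hB.symm a ha 1 A.one_mem, hB.one_left ha]

theorem add_right {a c c' : G} (ha : a ∈ A) (hc : c ∈ A) (hc' : c' ∈ A) :
    B a (c * c') = B a c + B a c' := by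
  rw [hB.symm a ha _ (mul_mem hc hc'), hB.add c hc c' hc' a ha, hB.symm c hc a ha, hB.symm c' hc' a ha]

theorem inv_self {a : G} (ha : a ∈ A) : a⁻¹ = a := inv_eq_of_mul_eq_one_right (hB.sq a ha)

theorem mul_cancel_self {a : G} (ha : a ∈ A) (x : G) : a * (a * x) = x := by
  rw [← mul_assoc, hB.sq a ha, one_mul]

theorem sel_mem {v : G} (hv : v ∈ A) (c : ZMod 2) : sel c v ∈ A := by
  unfold sel; split_ifs
  · exact A.one_mem
  · exact hv

/-- The orthogonal of a subgroup, inside `A`. -/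
def perp (_hB : Alt A B) (S : Subgroup G) (hS : S ≤ A) : Subgroup G where
  carrier := {a | a ∈ A ∧ ∀ s ∈ S, B a s = 0}
  one_mem' := ⟨A.one_mem, fun _ hs => _hB.one_left (hS hs)⟩
  mul_mem' {a b} ha hb := ⟨mul_mem ha.1 hb.1, fun s hs => by
    rw [_hB.add a ha.1 b hb.1 s (hS hs), ha.2 s hs, hb.2 s hs, add_zero]⟩
  inv_mem' {a} ha := by
    show a⁻¹ ∈ A ∧ _
    rw [inv_eq_of_mul_eq_one_right (_hB.sq a ha.1)]
    exact ha

theorem mem_perp {S : Subgroup G} (hS : S ≤ A) {a : G} :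
    a ∈ hB.perp S hS ↔ a ∈ A ∧ ∀ s ∈ S, B a s = 0 := Iff.rfl

theorem perp_le {S : Subgroup G} (hS : S ≤ A) : hB.perp S hS ≤ A := fun _ h => h.1

theorem card_perp [Finite G] {S : Subgroup G} (hS : S ≤ A) :
    Nat.card S * Nat.card (hB.perp S hS) = Nat.card A := by
  classical
  have := Fintype.ofFinite G
  let sg : ZMod 2 → ℤ := fun x => if x = 0 then 1 else -1
  have hsg : ∀ x y : ZMod 2, sg (x + y) = sg x * sg y := by decide
  -- a character sum vanishes unless the character is trivial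
  have hsum : ∀ (T : Subgroup G) (f : G → ZMod 2), (∀ t ∈ T, ∀ t' ∈ T, f (t * t') = f t + f t') →
      ∑ t : T, sg (f t) = if ∀ t ∈ T, f t = 0 then (Nat.card T : ℤ) else 0 := by
    intro T f hf
    split_ifs with h
    · rw [Finset.sum_congr rfl (g := fun _ => (1 : ℤ)) fun t _ => by simp [sg, h t t.2]]
      simp [Nat.card_eq_fintype_card]
    · push Not at h
      obtain ⟨t₀, ht₀, hne⟩ := h
      have h1 : sg (f t₀) = -1 := if_neg hne
      have h2 : ∑ t : T, sg (f (⟨t₀, ht₀⟩ * t : T)) = ∑ t : T, sg (f t) :=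
        Equiv.sum_comp (Equiv.mulLeft (⟨t₀, ht₀⟩ : T)) (fun t : T => sg (f t))
      have h3 : ∀ t : T, sg (f (⟨t₀, ht₀⟩ * t : T)) = -sg (f t) := fun t => by
        rw [Subgroup.coe_mul, hf t₀ ht₀ t t.2, hsg, h1, neg_one_mul]
      rw [Finset.sum_congr rfl fun t _ => h3 t, Finset.sum_neg_distrib] at h2
      linarith
  have hL : ∑ a : A, ∑ s : S, sg (B a s) = (Nat.card S * Nat.card (hB.perp S hS) : ℤ) := by
    rw [Finset.sum_congr rfl fun (a : A) _ =>
      hsum S (fun s => B a s) fun s hs s' hs' => hB.add_right a.2 (hS hs) (hS hs')]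
    rw [Finset.sum_ite, Finset.sum_const_zero, add_zero, Finset.sum_const, nsmul_eq_mul, mul_comm]
    congr 2
    rw [← Fintype.card_subtype, ← Nat.card_eq_fintype_card]
    refine Nat.card_congr ⟨fun a => ⟨a.1.1, a.1.2, a.2⟩, fun a => ⟨⟨a.1, a.2.1⟩, a.2.2⟩,
      fun _ => rfl, fun _ => rfl⟩
  have hR : ∑ s : S, ∑ a : A, sg (B a s) = (Nat.card A : ℤ) := by
    rw [Finset.sum_congr rfl fun (s : S) _ =>
      hsum A (fun a => B a s) fun a ha a' ha' => hB.add a ha a' ha' s (hS s.2)]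
    rw [Finset.sum_eq_single (1 : S)]
    · rw [if_pos fun a ha => by
        rw [OneMemClass.coe_one, hB.symm _ ha _ A.one_mem, hB.one_left ha]]
    · intro s _ hs
      rw [if_neg]
      intro h
      obtain ⟨c, hc, hne⟩ := hB.nondeg s (hS s.2) fun e => hs (Subtype.ext e)
      exact hne (by rw [hB.symm _ (hS s.2) _ hc]; exact h c hc)
    · simp
  rw [Finset.sum_comm, hR] at hL
  exact_mod_cast hL.symm

/-- An element of order two normalising `A` fixes at least the square root of its elements. -/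
theorem card_le_sq [Finite G] {y : G} (hy : y ∈ normalizer (A : Set G)) (hy2 : y * y = 1) :
    Nat.card A ≤ Nat.card (A ⊓ centralizer {y} : Subgroup G) ^ 2 := by
  have hA : ∀ x ∈ A, y * x * y⁻¹ ∈ A := fun x hx => (mem_normalizer_iff.mp hy x).mp hx
  let f : A →* G :=
    { toFun := fun x => x * (y * x * y⁻¹)
      map_one' := by simp
      map_mul' := fun a b => by
        show (a : G) * b * (y * (a * b) * y⁻¹) = a * (y * a * y⁻¹) * (b * (y * b * y⁻¹))
        rw [show y * ((a : G) * b) * y⁻¹ = y * a * y⁻¹ * (y * b * y⁻¹) by group,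
          mul_assoc (a : G) b, ← mul_assoc (b : G) (y * a * y⁻¹), hB.comm b.2 (hA a a.2)]
        group }
  have hker : f.ker.map A.subtype ≤ A ⊓ centralizer {y} := by
    rintro x ⟨⟨x, hx⟩, hx', rfl⟩
    have h : x * (y * x * y⁻¹) = 1 := hx'
    refine ⟨hx, mem_centralizer_singleton_iff.mpr ?_⟩
    have h2 : y * x * y⁻¹ = x := by
      rw [eq_inv_of_mul_eq_one_right h, inv_eq_of_mul_eq_one_right (hB.sq x hx)]
    show x * y = y * x
    conv_lhs => rw [← h2]
    group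
  have hrange : f.range ≤ A ⊓ centralizer {y} := by
    rintro _ ⟨x, rfl⟩
    refine ⟨mul_mem x.2 (hA x x.2), mem_centralizer_singleton_iff.mpr ?_⟩
    have hyi : y⁻¹ = y := inv_eq_of_mul_eq_one_right hy2
    have h := hB.comm x.2 (hA x x.2)
    show (x : G) * (y * x * y⁻¹) * y = y * ((x : G) * (y * x * y⁻¹))
    conv_lhs => rw [h]
    rw [hyi]
    simp only [mul_assoc, hy2, mul_one]
  have h1 := f.ker.card_mul_index
  rw [index_ker] at h1
  have hk : Nat.card f.ker ≤ Nat.card (A ⊓ centralizer {y} : Subgroup G) := by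
    refine le_trans (le_of_eq ?_) (Subgroup.card_le_of_le hker)
    exact (Nat.card_congr (Subgroup.equivMapOfInjective _ _ A.subtype_injective).toEquiv)
  rw [← h1, pow_two]
  exact Nat.mul_le_mul hk (Subgroup.card_le_of_le hrange)

/-- The subgroup generated by a subgroup and one more element of `A`. -/
def adj (_hB : Alt A B) (S : Subgroup G) (hS : S ≤ A) (c : G) (hc : c ∈ A) : Subgroup G where
  carrier := {x | x ∈ S ∨ c * x ∈ S}
  one_mem' := Or.inl S.one_mem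
  mul_mem' {x y} hx hy := by
    have hA : ∀ {x}, x ∈ S ∨ c * x ∈ S → x ∈ A := fun {x} h => h.elim (fun h => hS h) fun h => by
      simpa using mul_mem (inv_mem hc) (hS h)
    have hcx : c * x = x * c := _hB.comm hc (hA hx)
    rcases hx with hx | hx <;> rcases hy with hy | hy
    · exact Or.inl (mul_mem hx hy)
    · exact Or.inr (by rw [← mul_assoc, hcx, mul_assoc]; exact mul_mem hx hy)
    · exact Or.inr (by rw [← mul_assoc]; exact mul_mem hx hy)
    · refine Or.inl ?_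
      have h := mul_mem hx hy
      rwa [hcx, mul_assoc, ← mul_assoc c, _hB.sq c hc, one_mul] at h
  inv_mem' {x} hx := by
    have hA : x ∈ A := hx.elim (fun h => hS h) fun h => by
      simpa using mul_mem (inv_mem hc) (hS h)
    show x⁻¹ ∈ S ∨ c * x⁻¹ ∈ S
    rw [inv_eq_of_mul_eq_one_right (_hB.sq x hA)]
    exact hx

theorem adj_le {S : Subgroup G} (hS : S ≤ A) {c : G} (hc : c ∈ A) : hB.adj S hS c hc ≤ A :=
  fun _ h => Or.elim h (fun h => hS h) fun h => by simpa using mul_mem (inv_mem hc) (hS h)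

theorem le_adj {S : Subgroup G} (hS : S ≤ A) {c : G} (hc : c ∈ A) : S ≤ hB.adj S hS c hc :=
  fun _ h => Or.inl h

theorem mem_adj {S : Subgroup G} (hS : S ≤ A) {c : G} (hc : c ∈ A) : c ∈ hB.adj S hS c hc :=
  Or.inr (by rw [hB.sq c hc]; exact S.one_mem)

theorem card_adj [Finite G] {S : Subgroup G} (hS : S ≤ A) {c : G} (hc : c ∈ A) :
    Nat.card (hB.adj S hS c hc) ≤ 2 * Nat.card S := by
  have hsub : (hB.adj S hS c hc : Set G) ⊆ (S : Set G) ∪ (fun x => c * x) '' (S : Set G) := by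
    rintro x (hx | hx)
    · exact Or.inl hx
    · exact Or.inr ⟨c * x, hx, by show c * (c * x) = x; rw [← mul_assoc, hB.sq c hc, one_mul]⟩
  calc Nat.card (hB.adj S hS c hc) = (hB.adj S hS c hc : Set G).ncard := rfl
    _ ≤ ((S : Set G) ∪ (fun x => c * x) '' (S : Set G)).ncard :=
      Set.ncard_le_ncard hsub (Set.toFinite _)
    _ ≤ (S : Set G).ncard + ((fun x => c * x) '' (S : Set G)).ncard := Set.ncard_union_le _ _
    _ ≤ (S : Set G).ncard + (S : Set G).ncard :=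
      Nat.add_le_add_left (Set.ncard_image_le (Set.toFinite _)) _
    _ = 2 * Nat.card S := (two_mul _).symm

/-- A linear condition off `S` can be met orthogonally to `S`. -/
theorem exists_sep [Finite G] {S : Subgroup G} (hS : S ≤ A) {c : G} (hc : c ∈ A) (hcS : c ∉ S) :
    ∃ v ∈ hB.perp S hS, B v c = 1 := by
  by_contra! h
  have h2 : ∀ x : ZMod 2, x ≠ 1 → x = 0 := by decide
  have hle : hB.perp S hS ≤ hB.perp (hB.adj S hS c hc) (hB.adj_le hS hc) := by
    intro v hv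
    refine ⟨hv.1, fun x hx => ?_⟩
    rcases hx with hx | hx
    · exact hv.2 x hx
    · have e : x = c * (c * x) := by rw [← mul_assoc, hB.sq c hc, one_mul]
      rw [e, hB.add_right hv.1 hc (hS hx), h2 _ (h v hv), hv.2 _ hx, zero_add]
  have hlt : Nat.card S < Nat.card (hB.adj S hS c hc) := by
    refine lt_of_le_of_ne (Subgroup.card_le_of_le (hB.le_adj hS hc)) fun e => ?_
    rw [Subgroup.eq_of_le_of_card_ge (hB.le_adj hS hc) e.ge] at hcS
    exact hcS (hB.mem_adj hS hc)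
  have h3 := hB.card_perp hS
  have h4 := hB.card_perp (hB.adj_le hS hc)
  have h5 := Subgroup.card_le_of_le hle
  have h6 : 0 < Nat.card (hB.perp (hB.adj S hS c hc) (hB.adj_le hS hc)) := Nat.card_pos
  have h7 := Nat.mul_le_mul_left (Nat.card S) h5
  have h8 := Nat.mul_lt_mul_of_pos_right hlt h6
  omega

/-- No element outside `A` normalising `A` is conjugate into `A`. -/
theorem strongly_closed [Finite G] (hbig : 64 ≤ Nat.card A)
    (hC : ∀ a ∈ A, a ≠ 1 → centralizer {a} ≤ normalizer (A : Set G))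
    (hTI : ∀ g a, a ∈ A → a ≠ 1 → g * a * g⁻¹ ∈ A → g ∈ normalizer (A : Set G))
    (hself : normalizer (A : Set G) ⊓ centralizer A ≤ A) (htr : HasTransv A B)
    (g : G) {a₀ : G} (ha₀ : a₀ ∈ A) (hy : g * a₀ * g⁻¹ ∈ normalizer (A : Set G)) :
    g * a₀ * g⁻¹ ∈ A := by
  rcases eq_or_ne a₀ 1 with rfl | h1
  · simp
  by_contra hyA
  have hg : g ∉ normalizer (A : Set G) := fun h => hyA ((mem_normalizer_iff.mp h a₀).mp ha₀)
  let U : Subgroup G := A ⊓ (normalizer (A : Set G)).comap (MulAut.conj g⁻¹).toMonoidHom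
  let U' : Subgroup G := A ⊓ (normalizer (A : Set G)).comap (MulAut.conj g).toMonoidHom
  have hUA : U ≤ A := inf_le_left
  have hU : ∀ {u}, u ∈ U ↔ u ∈ A ∧ g⁻¹ * u * g ∈ normalizer (A : Set G) := by
    intro u; simp [U]
  have hU' : ∀ {v}, v ∈ U' ↔ v ∈ A ∧ g * v * g⁻¹ ∈ normalizer (A : Set G) := by
    intro v; simp [U']
  have ha₀U : a₀ ∈ U' := hU'.mpr ⟨ha₀, hy⟩
  -- `U` and the conjugate of `U'` commute
  have hcomm : ∀ u ∈ U, ∀ v ∈ U', u * (g * v * g⁻¹) = g * v * g⁻¹ * u := by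
    intro u hu v hv
    obtain ⟨huA, hu'⟩ := hU.mp hu
    obtain ⟨hvA, hv'⟩ := hU'.mp hv
    set Y := g * v * g⁻¹ with hY
    have hcA : u * Y * u⁻¹ * Y⁻¹ ∈ A := by
      rw [mul_assoc u, mul_assoc u]
      exact mul_mem huA ((mem_normalizer_iff.mp hv' _).mp (inv_mem huA))
    have hcA' : g⁻¹ * (u * Y * u⁻¹ * Y⁻¹) * g ∈ A := by
      rw [hY, show g⁻¹ * (u * (g * v * g⁻¹) * u⁻¹ * (g * v * g⁻¹)⁻¹) * g =
        g⁻¹ * u * g * v * (g⁻¹ * u * g)⁻¹ * v⁻¹ by group]
      exact mul_mem ((mem_normalizer_iff.mp hu' v).mp hvA) (inv_mem hvA)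
    by_contra hne
    apply hg
    refine hTI g _ hcA' (fun e => hne ?_) (by
      rw [show g * (g⁻¹ * (u * Y * u⁻¹ * Y⁻¹) * g) * g⁻¹ = u * Y * u⁻¹ * Y⁻¹ by group]
      exact hcA)
    have e' : u * Y * u⁻¹ * Y⁻¹ = 1 := by
      have := congrArg (fun x => g * x * g⁻¹) e
      simpa [mul_assoc] using this
    rwa [mul_inv_eq_one, mul_inv_eq_iff_eq_mul] at e'
  have hinv2 : ∀ v ∈ A, g * v * g⁻¹ * (g * v * g⁻¹) = 1 := by
    intro v hv; rw [conj_mul, hB.sq v hv]; group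
  have hWU : A ⊓ centralizer {g * a₀ * g⁻¹} ≤ U := by
    rintro x ⟨hxA, hx⟩
    refine hU.mpr ⟨hxA, hC a₀ ha₀ h1 (mem_centralizer_singleton_iff.mpr ?_)⟩
    have e := mem_centralizer_singleton_iff.mp hx
    calc g⁻¹ * x * g * a₀ = g⁻¹ * (x * (g * a₀ * g⁻¹)) * g := by group
      _ = g⁻¹ * (g * a₀ * g⁻¹ * x) * g := by rw [e]
      _ = a₀ * (g⁻¹ * x * g) := by group
  have hnA : Nat.card A ≤ Nat.card U ^ 2 :=
    (hB.card_le_sq hy (hinv2 a₀ ha₀)).trans (Nat.pow_le_pow_left (Subgroup.card_le_of_le hWU) 2)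
  obtain ⟨x₀, hx₀, hx₀1⟩ : ∃ x ∈ U, x ≠ 1 := by
    refine (Subgroup.bot_or_exists_ne_one U).resolve_left fun e => ?_
    rw [e, Subgroup.card_bot] at hnA
    omega
  obtain ⟨hx₀A, hz₀⟩ := hU.mp hx₀
  have hW'U : A ⊓ centralizer {g⁻¹ * x₀ * g} ≤ U' := by
    rintro v ⟨hvA, hv⟩
    refine hU'.mpr ⟨hvA, hC x₀ hx₀A hx₀1 (mem_centralizer_singleton_iff.mpr ?_)⟩
    have e := mem_centralizer_singleton_iff.mp hv
    calc g * v * g⁻¹ * x₀ = g * (v * (g⁻¹ * x₀ * g)) * g⁻¹ := by group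
      _ = g * (g⁻¹ * x₀ * g * v) * g⁻¹ := by rw [e]
      _ = x₀ * (g * v * g⁻¹) := by group
  have hnA' : Nat.card A ≤ Nat.card U' ^ 2 := by
    refine (hB.card_le_sq hz₀ ?_).trans (Nat.pow_le_pow_left (Subgroup.card_le_of_le hW'U) 2)
    rw [show g⁻¹ * x₀ * g * (g⁻¹ * x₀ * g) = g⁻¹ * (x₀ * x₀) * g by group, hB.sq x₀ hx₀A]; group
  -- the fixed points of every non-trivial element of the conjugate of `U'` form `U`
  have hfix : ∀ v ∈ U', v ≠ 1 → ∀ x ∈ A, x * (g * v * g⁻¹) = g * v * g⁻¹ * x → x ∈ U := by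
    intro v hv hv1 x hx e
    refine hU.mpr ⟨hx, hC v (hU'.mp hv).1 hv1 (mem_centralizer_singleton_iff.mpr ?_)⟩
    calc g⁻¹ * x * g * v = g⁻¹ * (x * (g * v * g⁻¹)) * g := by group
      _ = g⁻¹ * (g * v * g⁻¹ * x) * g := by rw [e]
      _ = v * (g⁻¹ * x * g) := by group
  -- the displacements
  let d : G → G → G := fun v z => z * (g * v * g⁻¹ * z * (g * v * g⁻¹)⁻¹)
  have hYz : ∀ v ∈ U', ∀ z ∈ A, g * v * g⁻¹ * z * (g * v * g⁻¹)⁻¹ ∈ A :=
    fun v hv z hz => (mem_normalizer_iff.mp (hU'.mp hv).2 z).mp hz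
  have hact : ∀ v z, z ∈ A → g * v * g⁻¹ * z * (g * v * g⁻¹)⁻¹ = z * d v z := by
    intro v z hz
    show _ = z * (z * _)
    rw [hB.mul_cancel_self hz]
  have hd1 : ∀ z ∈ A, d 1 z = 1 := by
    intro z hz
    show z * (g * 1 * g⁻¹ * z * (g * 1 * g⁻¹)⁻¹) = 1
    rw [show g * 1 * g⁻¹ * z * (g * 1 * g⁻¹)⁻¹ = z by group, hB.sq z hz]
  have hdA : ∀ v ∈ U', ∀ z ∈ A, d v z ∈ A := fun v hv z hz => mul_mem hz (hYz v hv z hz)
  have hdU : ∀ v ∈ U', ∀ z ∈ A, d v z ∈ U := by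
    intro v hv z hz
    rcases eq_or_ne v 1 with rfl | hv1
    · rw [hd1 z hz]; exact U.one_mem
    refine hfix v hv hv1 _ (hdA v hv z hz) ?_
    set Y := g * v * g⁻¹ with hY
    have hY2 : Y * Y = 1 := hinv2 v (hU'.mp hv).1
    have hYi : Y⁻¹ = Y := inv_eq_of_mul_eq_one_right hY2
    show z * (Y * z * Y⁻¹) * Y = Y * (z * (Y * z * Y⁻¹))
    conv_lhs => rw [hB.comm hz (hYz v hv z hz), ← hY]
    rw [hYi]
    simp only [mul_assoc, hY2, mul_one]
  have hdinU : ∀ v ∈ U', ∀ u ∈ U, d v u = 1 := by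
    intro v hv u hu
    show u * (g * v * g⁻¹ * u * (g * v * g⁻¹)⁻¹) = 1
    rw [← hcomm u hu v hv, mul_inv_cancel_right, hB.sq u (hUA hu)]
  have hdmul : ∀ v ∈ U', ∀ z ∈ A, ∀ z' ∈ A, d v (z * z') = d v z * d v z' := by
    intro v hv z hz z' hz'
    show z * z' * _ = z * _ * (z' * _)
    rw [mul_assoc z (g * v * g⁻¹ * z * _), ← mul_assoc _ z', hB.comm (hYz v hv z hz) hz']
    group
  have hdadd : ∀ v ∈ U', ∀ v' ∈ U', ∀ z ∈ A, d (v * v') z = d v z * d v' z := by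
    intro v hv v' hv' z hz
    show z * (g * (v * v') * g⁻¹ * z * (g * (v * v') * g⁻¹)⁻¹) = _
    rw [show g * (v * v') * g⁻¹ * z * (g * (v * v') * g⁻¹)⁻¹ =
      g * v * g⁻¹ * (g * v' * g⁻¹ * z * (g * v' * g⁻¹)⁻¹) * (g * v * g⁻¹)⁻¹ by group,
      hact v' z hz, show g * v * g⁻¹ * (z * d v' z) * (g * v * g⁻¹)⁻¹ =
      g * v * g⁻¹ * z * (g * v * g⁻¹)⁻¹ * (g * v * g⁻¹ * d v' z * (g * v * g⁻¹)⁻¹) by group,
      hact v z hz, hact v (d v' z) (hdA v' hv' z hz),
      hdinU v hv _ (hdU v' hv' z hz), mul_one, ← mul_assoc, hB.mul_cancel_self hz]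
  have hdsymm : ∀ v ∈ U', ∀ z ∈ A, ∀ w ∈ A, B (d v z) w = B z (d v w) := by
    intro v hv z hz w hw
    obtain ⟨hvA, hv'⟩ := hU'.mp hv
    have hback : g * v * g⁻¹ * (w * d v w) * (g * v * g⁻¹)⁻¹ = w := by
      rw [← hact v w hw, ← mul_assoc, ← mul_assoc, hinv2 v hvA, one_mul, mul_assoc, ← mul_inv_rev,
        hinv2 v hvA, inv_one, mul_one]
    show B (z * (g * v * g⁻¹ * z * (g * v * g⁻¹)⁻¹)) w = _
    rw [hB.add z hz _ (hYz v hv z hz) w hw]
    conv_lhs => arg 2; rw [← hback, hB.inv _ hv' z hz _ (mul_mem hw (hdA v hv w hw)),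
      hB.add_right hz hw (hdA v hv w hw)]
    rw [← add_assoc, CharTwo.add_self_eq_zero, zero_add]
  have hinj : ∀ v ∈ U', ∀ z ∈ A, z ∉ U → d v z = 1 → v = 1 := by
    intro v hv z hz hzU h
    by_contra hv1
    refine hzU (hfix v hv hv1 z hz ?_)
    have h2 : g * v * g⁻¹ * z * (g * v * g⁻¹)⁻¹ = z := by rw [hact v z hz, h, mul_one]
    exact (mul_inv_eq_iff_eq_mul.mp h2).symm
  obtain ⟨x₁, hx₁, hx₁U⟩ : ∃ x ∈ A, x ∉ U := by
    by_contra! h
    obtain ⟨x, hx, hx1⟩ := (Subgroup.bot_or_exists_ne_one U').resolve_left (fun e => by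
      rw [e, Subgroup.card_bot] at hnA'; omega)
    obtain ⟨hxA, hx'⟩ := hU'.mp hx
    exact hg (hTI g x hxA hx1 (hself ⟨hx', fun u hu => hcomm u (h u hu) x hx⟩))
  -- `U` is its own orthogonal
  let M : U' →* G :=
    { toFun := fun v => d v x₁
      map_one' := by rw [OneMemClass.coe_one, hd1 x₁ hx₁]
      map_mul' := fun v w => by rw [Subgroup.coe_mul]; exact hdadd v v.2 w w.2 x₁ hx₁ }
  have hMperp : M.range ≤ hB.perp U hUA := by
    rintro _ ⟨v, rfl⟩
    refine ⟨hdA v v.2 x₁ hx₁, fun u hu => ?_⟩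
    show B (d v x₁) u = 0
    rw [hdsymm v v.2 x₁ hx₁ u (hUA hu), hdinU v v.2 u hu, hB.one_right hx₁]
  have hMinj : Function.Injective M := by
    rw [← MonoidHom.ker_eq_bot_iff, Subgroup.eq_bot_iff_forall]
    intro v hv
    exact Subtype.ext (hinj v v.2 x₁ hx₁ hx₁U hv)
  have hMcard : Nat.card M.range = Nat.card U' :=
    Nat.card_congr (MonoidHom.ofInjective hMinj).symm.toEquiv
  have hperpU : hB.perp U hUA = U := by
    have h3 := hMcard ▸ Subgroup.card_le_of_le hMperp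
    have h4 := hB.card_perp hUA
    have hpos : 0 < Nat.card U := Nat.card_pos
    have hpos' : 0 < Nat.card (hB.perp U hUA) := Nat.card_pos
    have h6 := hnA'.trans (Nat.pow_le_pow_left h3 2)
    rw [← h4, pow_two] at h6
    have h7 : Nat.card U * Nat.card (hB.perp U hUA) ≤ Nat.card U * Nat.card U := by
      rw [h4, ← pow_two]; exact hnA
    have h5 : Nat.card U = Nat.card (hB.perp U hUA) :=
      le_antisymm (Nat.le_of_mul_le_mul_right h6 hpos') (Nat.le_of_mul_le_mul_left h7 hpos)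
    have h8 : Nat.card (hB.perp U hUA) ≤ Nat.card M.range := by
      rw [hMcard]
      refine (Nat.pow_le_pow_iff_left two_ne_zero).mp (le_trans (le_of_eq ?_) hnA')
      rw [← h4, h5, pow_two]
    have heq := Subgroup.eq_of_le_of_card_ge hMperp h8
    refine Subgroup.eq_of_le_of_card_ge (fun t ht => ?_) h5.le
    rw [← heq] at ht
    obtain ⟨v, rfl⟩ := ht
    exact hdU v v.2 x₁ hx₁
  have hcardU : Nat.card U * Nat.card U = Nat.card A := by
    have := hB.card_perp hUA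
    rwa [hperpU] at this
  have hU8 : 8 ≤ Nat.card U := by nlinarith
  -- an element outside `U` orthogonal to its displacement
  obtain ⟨x₂, hx₂, hx₂U, hx₁₂⟩ : ∃ x ∈ A, x ∉ U ∧ x₁ * x ∉ U := by
    by_contra! h
    have hsub : A ≤ hB.adj U hUA x₁ hx₁ := fun x hx => by
      by_cases hxU : x ∈ U
      · exact Or.inl hxU
      · exact Or.inr (h x hx hxU)
    have h2 := (Subgroup.card_le_of_le hsub).trans (hB.card_adj hUA hx₁)
    nlinarith
  have hlin : ∀ z ∈ A, ∀ z' ∈ A, B (z * z') (d a₀ (z * z')) = B z (d a₀ z) + B z' (d a₀ z') := by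
    intro z hz z' hz'
    rw [hdmul a₀ ha₀U z hz z' hz', hB.add z hz z' hz' _ (mul_mem (hdA _ ha₀U z hz) (hdA _ ha₀U z' hz')),
      hB.add_right hz (hdA _ ha₀U z hz) (hdA _ ha₀U z' hz'),
      hB.add_right hz' (hdA _ ha₀U z hz) (hdA _ ha₀U z' hz'),
      ← hdsymm a₀ ha₀U z hz z' hz', hB.symm _ (hdA _ ha₀U z hz) z' hz']
    have : ∀ p r s : ZMod 2, p + r + (r + s) = p + s := by decide
    exact this _ _ _
  obtain ⟨x, hx, hxU, hxx⟩ : ∃ x ∈ A, x ∉ U ∧ B x (d a₀ x) = 0 := by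
    have h3 := hlin x₁ hx₁ x₂ hx₂
    have key : ∀ p r s : ZMod 2, s = p + r → p = 0 ∨ r = 0 ∨ s = 0 := by decide
    rcases key _ _ _ h3 with h | h | h
    · exact ⟨x₁, hx₁, hx₁U, h⟩
    · exact ⟨x₂, hx₂, hx₂U, h⟩
    · exact ⟨_, mul_mem hx₁ hx₂, hx₁₂, h⟩
  set u := d a₀ x with hu
  have huU : u ∈ U := hdU a₀ ha₀U x hx
  have huA : u ∈ A := hUA huU
  have hu1 : u ≠ 1 := fun e => h1 (hinj a₀ ha₀U x hx hxU e)
  -- the product of three transvections
  obtain ⟨n₁, hn₁, hn₁'⟩ := htr u huA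
  obtain ⟨n₂, hn₂, hn₂'⟩ := htr x hx
  obtain ⟨n₃, hn₃, hn₃'⟩ := htr (x * u) (mul_mem hx huA)
  have htau : ∀ z ∈ A, n₃ * n₂ * n₁ * z * (n₃ * n₂ * n₁)⁻¹ = z * (sel (B z u) x * sel (B z x) u) := by
    intro z hz
    rw [show n₃ * n₂ * n₁ * z * (n₃ * n₂ * n₁)⁻¹ = n₃ * (n₂ * (n₁ * z * n₁⁻¹) * n₂⁻¹) * n₃⁻¹ by group,
      hn₁' z hz, hn₂' _ (mul_mem hz (hB.sel_mem huA _)),
      hn₃' _ (mul_mem (mul_mem hz (hB.sel_mem huA _)) (hB.sel_mem hx _))]
    have hux : B u x = 0 := by rw [hB.symm u huA x hx]; exact hxx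
    have k1 : B (z * sel (B z u) u) x = B z x := by
      rw [hB.add z hz _ (hB.sel_mem huA _) x hx]
      unfold sel; split_ifs
      · rw [hB.one_left hx, add_zero]
      · rw [hux, add_zero]
    rw [k1]
    have k2 : B (z * sel (B z u) u * sel (B z x) x) (x * u) = B z x + B z u := by
      rw [hB.add _ (mul_mem hz (hB.sel_mem huA _)) _ (hB.sel_mem hx _) _ (mul_mem hx huA),
        hB.add z hz _ (hB.sel_mem huA _) _ (mul_mem hx huA), hB.add_right hz hx huA]
      have e1 : ∀ c, B (sel c u) (x * u) = 0 := fun c => by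
        rw [hB.add_right (hB.sel_mem huA c) hx huA]
        unfold sel; split_ifs <;> simp [hB.one_left hx, hB.one_left huA, hux, hB.self u huA]
      have e2 : ∀ c, B (sel c x) (x * u) = 0 := fun c => by
        rw [hB.add_right (hB.sel_mem hx c) hx huA]
        unfold sel; split_ifs <;> simp [hB.one_left hx, hB.one_left huA, hxx, hB.self x hx]
      rw [e1, e2, add_zero, add_zero]
    rw [k2]
    have hxu := hB.comm hx huA
    have hc : ∀ c : ZMod 2, c = 0 ∨ c = 1 := by decide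
    rcases hc (B z u) with e | e <;> rcases hc (B z x) with e' | e' <;>
      simp only [e, e', sel_zero, sel_one, add_zero, zero_add, mul_one, one_mul, CharTwo.add_self_eq_zero]
    · rw [mul_assoc, hB.mul_cancel_self hx]
    · rw [hxu, mul_assoc, hB.mul_cancel_self huA]
    · rw [mul_assoc, hxu]
  set n := n₃ * n₂ * n₁ with hn
  have hnN : n ∈ normalizer (A : Set G) := mul_mem (mul_mem hn₃ hn₂) hn₁
  have hdsel : ∀ v ∈ U', ∀ c z, z ∈ A → d v (sel c z) = sel c (d v z) := by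
    intro v hv c z hz
    unfold sel; split_ifs
    · exact hdinU v hv 1 U.one_mem
    · rfl
  have hBd : ∀ v ∈ U', ∀ z ∈ A, B (d v z) u = 0 := fun v hv z hz => by
    rw [hdsymm v hv z hz u huA, hdinU v hv u huU, hB.one_right hz]
  have hsel1 : ∀ c, sel c (1 : G) = 1 := fun c => by unfold sel; split_ifs <;> rfl
  have htd : ∀ v ∈ U', ∀ z ∈ A, n * d v z * n⁻¹ = d v z * sel (B z (d v x)) u := by
    intro v hv z hz
    rw [htau _ (hdA v hv z hz), hBd v hv z hz, sel_zero, one_mul, hdsymm v hv z hz x hx]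
  have hdt : ∀ v ∈ U', ∀ z ∈ A, d v (n * z * n⁻¹) = d v z * sel (B z u) (d v x) := by
    intro v hv z hz
    rw [htau z hz, hdmul v hv z hz _ (mul_mem (hB.sel_mem hx _) (hB.sel_mem huA _)),
      hdmul v hv _ (hB.sel_mem hx _) _ (hB.sel_mem huA _), hdsel v hv _ x hx, hdsel v hv _ u huA,
      hdinU v hv u huU, hsel1, mul_one]
  have hsame : n * (g * a₀ * g⁻¹) * n⁻¹ * (g * a₀ * g⁻¹)⁻¹ ∈ A := by
    set y := g * a₀ * g⁻¹ with hyd
    have hmem : n * y * n⁻¹ * y⁻¹ ∈ normalizer (A : Set G) :=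
      Subgroup.mul_mem _ (Subgroup.mul_mem _ (Subgroup.mul_mem _ hnN hy) (Subgroup.inv_mem _ hnN))
        (Subgroup.inv_mem _ hy)
    refine hself ⟨hmem, fun z hz => ?_⟩
    have hz'' : n⁻¹ * (y⁻¹ * z * y) * n ∈ A := by
      have h1 : y⁻¹ * z * y ∈ A := by
        simpa using (mem_normalizer_iff.mp (inv_mem hy) z).mp hz
      simpa using (mem_normalizer_iff.mp (inv_mem hnN) _).mp h1
    set w := n⁻¹ * (y⁻¹ * z * y) * n with hw
    have e2 : n * y * n⁻¹ * y⁻¹ * z * (n * y * n⁻¹ * y⁻¹)⁻¹ = n * (y * w * y⁻¹) * n⁻¹ := by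
      rw [hw]; group
    have e3 : y * (n * w * n⁻¹) * y⁻¹ = z := by rw [hw]; group
    have hnw : n * w * n⁻¹ ∈ A := (mem_normalizer_iff.mp hnN w).mp hz''
    have e4 : n * (y * w * y⁻¹) * n⁻¹ = y * (n * w * n⁻¹) * y⁻¹ := by
      rw [hyd, hact a₀ w hz'', hact a₀ _ hnw, hdt a₀ ha₀U w hz'', ← hu,
        show n * (w * d a₀ w) * n⁻¹ = n * w * n⁻¹ * (n * d a₀ w * n⁻¹) by group,
        htd a₀ ha₀U w hz'', ← hu]
    exact (mul_inv_eq_iff_eq_mul.mp (e2.trans (e4.trans e3))).symm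
  -- correct by an element of `A`
  obtain ⟨z₀, hz₀A, hz₀d⟩ : ∃ z ∈ A, d a₀ z = n * (g * a₀ * g⁻¹) * n⁻¹ * (g * a₀ * g⁻¹)⁻¹ := by
    let D : A →* G :=
      { toFun := fun z => d a₀ z
        map_one' := hdinU a₀ ha₀U 1 U.one_mem
        map_mul' := fun z z' => hdmul a₀ ha₀U z z.2 z' z'.2 }
    have hker : Nat.card D.ker ≤ Nat.card U := by
      refine le_trans (le_of_eq ?_) (Subgroup.card_le_of_le (show D.ker.map A.subtype ≤ U from ?_))
      · exact Nat.card_congr (Subgroup.equivMapOfInjective _ _ A.subtype_injective).toEquiv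
      · rintro _ ⟨⟨z, hz⟩, hz', rfl⟩
        by_contra hzU
        exact h1 (hinj a₀ ha₀U z hz hzU hz')
    have hran : D.range ≤ U := by rintro _ ⟨z, rfl⟩; exact hdU a₀ ha₀U z z.2
    have heq : D.range = U := by
      refine Subgroup.eq_of_le_of_card_ge hran ?_
      have h2 := D.ker.card_mul_index
      rw [index_ker, ← hcardU] at h2
      by_contra hlt
      push Not at hlt
      nlinarith [Nat.mul_le_mul_right (Nat.card D.range) hker,
        Nat.mul_lt_mul_of_pos_left hlt (Nat.card_pos (α := U))]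
    have hmemU : n * (g * a₀ * g⁻¹) * n⁻¹ * (g * a₀ * g⁻¹)⁻¹ ∈ U := by
      set a' := n * (g * a₀ * g⁻¹) * n⁻¹ * (g * a₀ * g⁻¹)⁻¹ with ha'
      refine hfix a₀ ha₀U h1 a' hsame ?_
      have e : a' * (g * a₀ * g⁻¹) * (a' * (g * a₀ * g⁻¹)) = 1 := by
        rw [ha', inv_mul_cancel_right, show n * (g * a₀ * g⁻¹) * n⁻¹ * (n * (g * a₀ * g⁻¹) * n⁻¹) =
          n * (g * a₀ * g⁻¹ * (g * a₀ * g⁻¹)) * n⁻¹ by group, hinv2 a₀ ha₀]
        group
      rw [eq_inv_of_mul_eq_one_left e, mul_inv_rev, hB.inv_self hsame,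
        inv_eq_of_mul_eq_one_right (hinv2 a₀ ha₀)]
    rw [← heq] at hmemU
    obtain ⟨z, hz⟩ := hmemU
    exact ⟨z, z.2, hz⟩
  set n' := z₀⁻¹ * n with hn'
  have hn'N : n' ∈ normalizer (A : Set G) := mul_mem (le_normalizer (inv_mem hz₀A)) hnN
  have hn'z : ∀ z ∈ A, n' * z * n'⁻¹ = n * z * n⁻¹ := by
    intro z hz
    have hm : n * z * n⁻¹ ∈ A := (mem_normalizer_iff.mp hnN z).mp hz
    calc n' * z * n'⁻¹ = z₀⁻¹ * (n * z * n⁻¹) * z₀ := by rw [hn']; group
      _ = n * z * n⁻¹ * z₀⁻¹ * z₀ := by rw [hB.comm (inv_mem hz₀A) hm]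
      _ = n * z * n⁻¹ := inv_mul_cancel_right _ _
  have hn'y : n' * (g * a₀ * g⁻¹) = g * a₀ * g⁻¹ * n' := by
    have h2 : n * (g * a₀ * g⁻¹) * n⁻¹ = d a₀ z₀ * (g * a₀ * g⁻¹) := by
      rw [hz₀d, inv_mul_cancel_right]
    have h3 : z₀ * (g * a₀ * g⁻¹) * z₀⁻¹ = d a₀ z₀ * (g * a₀ * g⁻¹) := by
      show _ = z₀ * _ * _
      rw [hB.inv_self hz₀A]
      group
    have h4 := h2.trans h3.symm
    calc n' * (g * a₀ * g⁻¹) = z₀⁻¹ * (n * (g * a₀ * g⁻¹) * n⁻¹) * n := by rw [hn']; group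
      _ = z₀⁻¹ * (z₀ * (g * a₀ * g⁻¹) * z₀⁻¹) * n := by rw [h4]
      _ = g * a₀ * g⁻¹ * n' := by rw [hn']; group
  set k := g⁻¹ * n' * g with hk
  have hkN : k ∈ normalizer (A : Set G) := by
    refine hC a₀ ha₀ h1 (mem_centralizer_singleton_iff.mpr ?_)
    calc k * a₀ = g⁻¹ * (n' * (g * a₀ * g⁻¹)) * g := by rw [hk]; group
      _ = g⁻¹ * (g * a₀ * g⁻¹ * n') * g := by rw [hn'y]
      _ = a₀ * k := by rw [hk]; group
  obtain ⟨v, hv, hv1, hva⟩ : ∃ v ∈ U', v ≠ 1 ∧ v ≠ a₀ := by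
    by_contra! h
    have h2 : Nat.card U' ≤ 2 := by
      calc Nat.card U' = (U' : Set G).ncard := rfl
        _ ≤ ({1, a₀} : Set G).ncard := Set.ncard_le_ncard (fun v hv => by
            by_cases hv1 : v = 1
            · exact Or.inl hv1
            · exact Or.inr (h v hv hv1)) (Set.toFinite _)
        _ ≤ 2 := (Set.ncard_insert_le _ _).trans (by rw [Set.ncard_singleton])
    nlinarith
  obtain ⟨hvA, hv'⟩ := hU'.mp hv
  set v' := k * v * k⁻¹ with hvd
  have hconj : g * v' * g⁻¹ = n' * (g * v * g⁻¹) * n'⁻¹ := by rw [hvd, hk]; group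
  have hv'U : v' ∈ U' := by
    refine hU'.mpr ⟨(mem_normalizer_iff.mp hkN v).mp hvA, ?_⟩
    rw [hconj]
    exact mul_mem (mul_mem hn'N hv') (inv_mem hn'N)
  have hrel : ∀ z ∈ A, d v' (n * z * n⁻¹) = n * d v z * n⁻¹ := by
    intro z hz
    show n * z * n⁻¹ * (g * v' * g⁻¹ * (n * z * n⁻¹) * (g * v' * g⁻¹)⁻¹) = _
    rw [hconj, ← hn'z z hz, show n' * (g * v * g⁻¹) * n'⁻¹ * (n' * z * n'⁻¹) *
      (n' * (g * v * g⁻¹) * n'⁻¹)⁻¹ = n' * (g * v * g⁻¹ * z * (g * v * g⁻¹)⁻¹) * n'⁻¹ by group,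
      hact v z hz, hn'z z hz, hn'z _ (mul_mem hz (hdA v hv z hz)),
      show n * (z * d v z) * n⁻¹ = n * z * n⁻¹ * (n * d v z * n⁻¹) by group,
      hB.mul_cancel_self ((mem_normalizer_iff.mp hnN z).mp hz)]
  set w := d v x with hwd
  have hwA : w ∈ A := hdA v hv x hx
  -- a fixed element outside `U`
  let S₁ := hB.adj ⊥ bot_le x hx
  have hS₁ : S₁ ≤ A := hB.adj_le bot_le hx
  let S₂ := hB.adj S₁ hS₁ u huA
  have hS₂ : S₂ ≤ A := hB.adj_le hS₁ huA
  let S := hB.adj S₂ hS₂ w hwA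
  have hS : S ≤ A := hB.adj_le hS₂ hwA
  have hxS : x ∈ S := hB.le_adj hS₂ hwA (hB.le_adj hS₁ huA (hB.mem_adj bot_le hx))
  have huS : u ∈ S := hB.le_adj hS₂ hwA (hB.mem_adj hS₁ huA)
  have hwS : w ∈ S := hB.mem_adj hS₂ hwA
  have hS8 : Nat.card S ≤ 8 := by
    have k1 : Nat.card S₁ ≤ 2 * 1 := (hB.card_adj bot_le hx).trans (by simp)
    have k2 : Nat.card S₂ ≤ 2 * Nat.card S₁ := hB.card_adj hS₁ huA
    have k3 : Nat.card S ≤ 2 * Nat.card S₂ := hB.card_adj hS₂ hwA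
    omega
  obtain ⟨z, hzS, hzU⟩ : ∃ z ∈ hB.perp S hS, z ∉ U := by
    by_contra! h
    have hle : U ≤ hB.perp (hB.perp S hS) (hB.perp_le hS) := by
      intro t ht
      refine ⟨hUA ht, fun z hz => ?_⟩
      have ht' : t ∈ hB.perp U hUA := by rw [hperpU]; exact ht
      exact ht'.2 z (h z hz)
    have hSS : S ≤ hB.perp (hB.perp S hS) (hB.perp_le hS) := fun s hs =>
      ⟨hS hs, fun z hz => by rw [hB.symm s (hS hs) z hz.1]; exact hz.2 s hs⟩
    have hc : Nat.card (hB.perp (hB.perp S hS) (hB.perp_le hS)) = Nat.card S := by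
      refine Nat.eq_of_mul_eq_mul_left (Nat.card_pos (α := hB.perp S hS)) ?_
      rw [hB.card_perp, mul_comm, hB.card_perp]
    rw [← Subgroup.eq_of_le_of_card_ge hSS hc.le] at hle
    exact hxU (Subgroup.eq_of_le_of_card_ge hle (hS8.trans hU8) ▸ hxS)
  have hzA := hzS.1
  have hnz : n * z * n⁻¹ = z := by
    rw [htau z hzA, hzS.2 x hxS, hzS.2 u huS, sel_zero, sel_zero, one_mul, mul_one]
  have hvv : v' = v := by
    have e := hrel z hzA
    rw [hnz, htd v hv z hzA, ← hwd, hzS.2 w hwS, sel_zero, mul_one] at e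
    have e2 := hinj (v' * v) (mul_mem hv'U hv) z hzA hzU
      (by rw [hdadd v' hv'U v hv z hzA, e, hB.sq _ (hdA v hv z hzA)])
    rw [eq_inv_of_mul_eq_one_left e2, hB.inv_self hvA]
  obtain ⟨z₁, hz₁, hz₁u⟩ := hB.nondeg u huA hu1
  have h01 : ∀ c : ZMod 2, c ≠ 0 → c = 1 := by decide
  have hz₁u' : B z₁ u = 1 := h01 _ (by rwa [hB.symm z₁ hz₁ u huA])
  have e := hrel z₁ hz₁
  rw [hvv, hdt v hv z₁ hz₁, htd v hv z₁ hz₁, ← hwd, mul_right_inj, hz₁u', sel_one] at e
  have hw1 : w ≠ 1 := fun h => hv1 (hinj v hv x hx hxU h)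
  have hwu : w = u := by
    have hc : ∀ c : ZMod 2, c = 0 ∨ c = 1 := by decide
    rcases hc (B z₁ w) with e' | e'
    · rw [e', sel_zero] at e; exact absurd e hw1
    · rwa [e', sel_one] at e
  have e3 := hinj (v * a₀) (mul_mem hv ha₀U) x hx hxU
    (by rw [hdadd v hv a₀ ha₀U x hx, ← hwd, ← hu, hwu, hB.sq u huA])
  exact hva (by rw [eq_inv_of_mul_eq_one_left e3, hB.inv_self ha₀])

/-- Distinct conjugates of `A` meet trivially. -/
theorem ti [Finite G] (hbig : 8 ≤ Nat.card A)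
    (hC : ∀ a ∈ A, a ≠ 1 → centralizer {a} ≤ normalizer (A : Set G))
    (hself : normalizer (A : Set G) ⊓ centralizer A ≤ A) (htr : HasTransv A B)
    (g a : G) (ha : a ∈ A) (ha1 : a ≠ 1) (hga : g * a * g⁻¹ ∈ A) :
    g ∈ normalizer (A : Set G) := by
  by_contra hg
  let I : Subgroup G := A ⊓ A.comap (MulAut.conj g⁻¹).toMonoidHom
  have hI : ∀ {x}, x ∈ I ↔ x ∈ A ∧ g⁻¹ * x * g ∈ A := by intro x; simp [I]
  set b₀ := g * a * g⁻¹ with hb₀
  have hb₀I : b₀ ∈ I := hI.mpr ⟨hga, by rw [hb₀]; group; simpa using ha⟩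
  have hb₀1 : b₀ ≠ 1 := fun e => ha1 (by simpa [hb₀] using e)
  have hCI : ∀ x ∈ I, x ≠ 1 → ∀ h, h * x * h⁻¹ = x →
      h ∈ normalizer (A : Set G) ∧ g⁻¹ * h * g ∈ normalizer (A : Set G) := by
    intro x hx hx1 h e
    have e' : h * x = x * h := mul_inv_eq_iff_eq_mul.mp e
    obtain ⟨hxA, hx'⟩ := hI.mp hx
    refine ⟨hC x hxA hx1 (mem_centralizer_singleton_iff.mpr e'),
      hC _ hx' (fun h0 => hx1 ?_) (mem_centralizer_singleton_iff.mpr ?_)⟩
    · have := congrArg (fun y => g * y * g⁻¹) h0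
      simpa [mul_assoc] using this
    · calc g⁻¹ * h * g * (g⁻¹ * x * g) = g⁻¹ * (h * x) * g := by group
        _ = g⁻¹ * (x * h) * g := by rw [e']
        _ = g⁻¹ * x * g * (g⁻¹ * h * g) := by group
  have hIinv : ∀ x ∈ I, x ≠ 1 → ∀ h, h * x * h⁻¹ = x → ∀ u ∈ I, h * u * h⁻¹ ∈ I := by
    intro x hx hx1 h e u hu
    obtain ⟨h1, h2⟩ := hCI x hx hx1 h e
    obtain ⟨huA, hu'⟩ := hI.mp hu
    refine hI.mpr ⟨(mem_normalizer_iff.mp h1 u).mp huA, ?_⟩
    rw [show g⁻¹ * (h * u * h⁻¹) * g = g⁻¹ * h * g * (g⁻¹ * u * g) * (g⁻¹ * h * g)⁻¹ by group]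
    exact (mem_normalizer_iff.mp h2 _).mp hu'
  -- a transvection fixing an element of `I` does not leave `I`
  have hmove : ∀ x ∈ I, x ≠ 1 → ∀ v ∈ A, B x v = 0 → ∀ c ∈ I, B c v = 1 → v ∈ I := by
    intro x hx hx1 v hv hxv c hc hcv
    obtain ⟨h, -, hh⟩ := htr v hv
    have e1 : h * x * h⁻¹ = x := by rw [hh x (hI.mp hx).1, hxv, sel_zero, mul_one]
    have e2 := hh c (hI.mp hc).1
    rw [hcv, sel_one] at e2
    have e3 := mul_mem (inv_mem hc) (e2 ▸ hIinv x hx hx1 h e1 c hc)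
    rwa [inv_mul_cancel_left] at e3
  have h2 : ∀ c : ZMod 2, c = 0 ∨ c = 1 := by decide
  have h01 : ∀ c : ZMod 2, c ≠ 0 → c = 1 := by decide
  -- the displacements
  let D : G → G → G := fun a' x => x * (g * a' * g⁻¹ * x * (g * a' * g⁻¹)⁻¹)
  have hfix : ∀ a' ∈ A, ∀ u ∈ I, g * a' * g⁻¹ * u * (g * a' * g⁻¹)⁻¹ = u := by
    intro a' ha' u hu
    obtain ⟨-, hu'⟩ := hI.mp hu
    calc g * a' * g⁻¹ * u * (g * a' * g⁻¹)⁻¹ = g * (a' * (g⁻¹ * u * g) * a'⁻¹) * g⁻¹ := by group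
      _ = g * (g⁻¹ * u * g) * g⁻¹ := by rw [hB.comm ha' hu', mul_inv_cancel_right]
      _ = u := by group
  have hN : ∀ a' ∈ A, g * a' * g⁻¹ ∈ normalizer (A : Set G) :=
    fun a' ha' => (hCI b₀ hb₀I hb₀1 _ (hfix a' ha' b₀ hb₀I)).1
  have hDI : ∀ a' ∈ A, ∀ x ∈ A, D a' x ∈ I := by
    intro a' ha' x hx
    refine hI.mpr ⟨mul_mem hx ((mem_normalizer_iff.mp (hN a' ha') x).mp hx), ?_⟩
    have hxN : g⁻¹ * x * g ∈ normalizer (A : Set G) :=
      (hCI b₀ hb₀I hb₀1 x (by rw [hB.comm hx hga, mul_inv_cancel_right])).2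
    show g⁻¹ * (x * (g * a' * g⁻¹ * x * (g * a' * g⁻¹)⁻¹)) * g ∈ A
    have key : g⁻¹ * x * g * a' * (g⁻¹ * x * g)⁻¹ * a'⁻¹ ∈ A :=
      mul_mem ((mem_normalizer_iff.mp hxN a').mp ha') (inv_mem ha')
    rw [mul_inv_rev, mul_inv_rev, inv_inv, hB.inv_self hx] at key
    simpa [mul_assoc] using key
  have hDperp : ∀ a' ∈ A, ∀ x ∈ A, ∀ u ∈ I, B (D a' x) u = 0 := by
    intro a' ha' x hx u hu
    have huA := (hI.mp hu).1
    show B (x * (g * a' * g⁻¹ * x * (g * a' * g⁻¹)⁻¹)) u = 0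
    rw [hB.add x hx _ ((mem_normalizer_iff.mp (hN a' ha') x).mp hx) u huA]
    conv_lhs => arg 2; rw [← hfix a' ha' u hu, hB.inv _ (hN a' ha') x hx u huA]
    exact CharTwo.add_self_eq_zero _
  have hDone : ∀ a' ∈ A, ∀ x ∈ A, (∀ u ∈ I, B x u = 0) → D a' x = 1 := by
    intro a' ha' x hx hxI
    by_contra hne
    obtain ⟨y, hy, hy1⟩ := hB.nondeg _ ((hI.mp (hDI a' ha' x hx)).1) hne
    apply hy1
    have heN := hN a' ha'
    have hex := (mem_normalizer_iff.mp heN x).mp hx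
    have hd : g * a' * g⁻¹ * y * (g * a' * g⁻¹)⁻¹ = y * D a' y := by
      show _ = y * (y * _)
      rw [hB.mul_cancel_self hy]
    have hdI := hDI a' ha' y hy
    have k1 := hB.inv _ heN x hx y hy
    rw [hd, hB.add_right hex hy (hI.mp hdI).1] at k1
    have k2 := hB.inv _ heN x hx _ (hI.mp hdI).1
    rw [hfix a' ha' _ hdI, hxI _ hdI] at k2
    rw [k2, add_zero] at k1
    show B (x * (g * a' * g⁻¹ * x * (g * a' * g⁻¹)⁻¹)) y = 0
    rw [hB.add x hx _ hex y hy, k1, CharTwo.add_self_eq_zero]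
  have hcov : ∀ a' ∈ A, (∀ x ∈ A, D a' x = 1) → g * a' * g⁻¹ ∈ I := by
    intro a' ha' h
    refine hI.mpr ⟨hself ⟨hN a' ha', fun x hx => ?_⟩,
      by rw [show g⁻¹ * (g * a' * g⁻¹) * g = a' by group]; exact ha'⟩
    have h3 : g * a' * g⁻¹ * x * (g * a' * g⁻¹)⁻¹ = x := by
      rw [eq_inv_of_mul_eq_one_right (h x hx), hB.inv_self hx]
    exact (mul_inv_eq_iff_eq_mul.mp h3).symm
  -- a non-trivial displacement
  obtain ⟨a₁, ha₁, x₁, hx₁, hne⟩ : ∃ a' ∈ A, ∃ x ∈ A, D a' x ≠ 1 := by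
    by_contra! h
    exact hg (Subgroup.mem_normalizer_fintype fun m hm => (hI.mp (hcov m hm (h m hm))).1)
  set b := D a₁ x₁ with hb
  have hbI : b ∈ I := hDI a₁ ha₁ x₁ hx₁
  have hbA := (hI.mp hbI).1
  have hxb : ∀ u ∈ I, B u b = 0 :=
    fun u hu => by rw [hB.symm u (hI.mp hu).1 b hbA]; exact hDperp a₁ ha₁ x₁ hx₁ u hu
  have hbI' : ∀ u ∈ I, B b u = 0 := hDperp a₁ ha₁ x₁ hx₁
  by_cases hc : ∃ c ∈ I, c ≠ 1 ∧ c ≠ b
  · obtain ⟨c, hcI, hc1, hcb⟩ := hc
    let S := hB.adj ⊥ bot_le c (hI.mp hcI).1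
    have hS : S ≤ A := hB.adj_le bot_le (hI.mp hcI).1
    obtain ⟨v, hv, hv1⟩ := hB.exists_sep hS hbA (fun h => by
      rcases h with h | h
      · exact hne (Subgroup.mem_bot.mp h)
      · rw [Subgroup.mem_bot] at h
        exact hcb (by rw [eq_inv_of_mul_eq_one_left h, hB.inv_self hbA]))
    have hcS : c ∈ S := hB.mem_adj bot_le (hI.mp hcI).1
    have hvI := hmove c hcI hc1 v hv.1 (by rw [hB.symm c (hI.mp hcI).1 v hv.1]; exact hv.2 c hcS)
      b hbI (by rw [hB.symm b hbA v hv.1]; exact hv1)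
    rw [hxb v hvI] at hv1
    exact zero_ne_one hv1
  · push Not at hc
    have hId : ∀ a' ∈ A, ∀ x ∈ A, B x b = 0 → D a' x = 1 := fun a' ha' x hx h =>
      hDone a' ha' x hx fun u hu => by
        rcases eq_or_ne u 1 with rfl | hu1
        · exact hB.one_right hx
        · rw [hc u hu hu1, h]
    have hx1b : B x₁ b = 1 := h01 _ fun h => hne (hId a₁ ha₁ x₁ hx₁ h)
    have hker : ∀ a' ∈ A, D a' x₁ = 1 → a' = 1 ∨ a' = g⁻¹ * b * g := by
      intro a' ha' h
      have hall : ∀ x ∈ A, D a' x = 1 := by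
        intro x hx
        rcases h2 (B x b) with e | e
        · exact hId a' ha' x hx e
        have h3 := hId a' ha' (x * x₁) (mul_mem hx hx₁)
          (by rw [hB.add x hx x₁ hx₁ b hbA, e, hx1b, CharTwo.add_self_eq_zero])
        have hmul : D a' (x * x₁) = D a' x * D a' x₁ := by
          show _ = x * (g * a' * g⁻¹ * x * (g * a' * g⁻¹)⁻¹) * (x₁ * _)
          rw [mul_assoc x (g * a' * g⁻¹ * x * _), ← mul_assoc _ x₁,
            hB.comm ((mem_normalizer_iff.mp (hN a' ha') x).mp hx) hx₁]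
          show x * x₁ * _ = _
          group
        rw [hmul, h, mul_one] at h3
        exact h3
      rcases eq_or_ne (g * a' * g⁻¹) 1 with e | e
      · exact Or.inl (by simpa using e)
      · exact Or.inr (by rw [← hc _ (hcov a' ha' hall) e]; group)
    have hcover : (A : Set G) ⊆ {1, g⁻¹ * b * g, a₁, g⁻¹ * b * g * a₁} := by
      intro a' ha'
      by_cases h : D a' x₁ = 1
      · rcases hker a' ha' h with k | k <;> simp [k]
      · have e := hc _ (hDI a' ha' x₁ hx₁) h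
        have hd : ∀ a'', D a'' x₁ = b → g * a'' * g⁻¹ * x₁ * (g * a'' * g⁻¹)⁻¹ = x₁ * b := by
          intro a'' h'
          rw [← h']
          show _ = x₁ * (x₁ * _)
          rw [hB.mul_cancel_self hx₁]
        have h1 : D (a' * a₁) x₁ = 1 := by
          show x₁ * (g * (a' * a₁) * g⁻¹ * x₁ * (g * (a' * a₁) * g⁻¹)⁻¹) = 1
          rw [show g * (a' * a₁) * g⁻¹ * x₁ * (g * (a' * a₁) * g⁻¹)⁻¹ =
            g * a' * g⁻¹ * (g * a₁ * g⁻¹ * x₁ * (g * a₁ * g⁻¹)⁻¹) * (g * a' * g⁻¹)⁻¹ by group,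
            hd a₁ hb.symm, conj_mul.symm, hd a' e, hfix a' ha' b hbI, mul_assoc x₁ b,
            hB.sq b hbA, mul_one, hB.sq x₁ hx₁]
        have ea : a' = a' * a₁ * a₁ := by rw [mul_assoc, hB.sq a₁ ha₁, mul_one]
        rcases hker _ (mul_mem ha' ha₁) h1 with k | k <;> rw [ea, k] <;> simp
    have h4 : Nat.card A ≤ 4 := by
      calc Nat.card A = (A : Set G).ncard := rfl
        _ ≤ ({1, g⁻¹ * b * g, a₁, g⁻¹ * b * g * a₁} : Set G).ncard :=
          Set.ncard_le_ncard hcover (Set.toFinite _)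
        _ ≤ 4 := by
          refine (Set.ncard_insert_le _ _).trans (Nat.succ_le_succ ?_)
          refine (Set.ncard_insert_le _ _).trans (Nat.succ_le_succ ?_)
          refine (Set.ncard_insert_le _ _).trans (Nat.succ_le_succ ?_)
          rw [Set.ncard_singleton]
    omega

/-- With an involution inducing a transvection and strong closure, `A` is normal. -/
theorem eq_top_of_closed [Finite G] (hbig : 8 ≤ Nat.card A)
    (hC : ∀ a ∈ A, a ≠ 1 → centralizer {a} ≤ normalizer (A : Set G))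
    (hself : normalizer (A : Set G) ⊓ centralizer A ≤ A) (htr : HasTransv A B)
    (hSC : ∀ g a, a ∈ A → g * a * g⁻¹ ∈ normalizer (A : Set G) → g * a * g⁻¹ ∈ A)
    {t v : G} (ht : t ∈ normalizer (A : Set G)) (ht2 : t * t = 1) (hv : v ∈ A) (hv1 : v ≠ 1)
    (hact : ∀ x ∈ A, t * x * t⁻¹ = x * sel (B x v) v) :
    normalizer (A : Set G) = ⊤ := by
  have hTI := hB.ti hbig hC hself htr
  have h01 : ∀ c : ZMod 2, c ≠ 0 → c = 1 := by decide
  obtain ⟨x₀, hx₀, hx₀v⟩ := hB.nondeg v hv hv1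
  have hx₀v' : B x₀ v = 1 := h01 _ (by rwa [hB.symm x₀ hx₀ v hv])
  obtain ⟨w, hw, hwv, hw1, hwne⟩ : ∃ w ∈ A, B w v = 0 ∧ w ≠ 1 ∧ w ≠ v := by
    by_contra! h
    let S := hB.adj ⊥ bot_le v hv
    have hS : S ≤ A := hB.adj_le bot_le hv
    have hle : hB.perp S hS ≤ S := fun y hy => by
      by_cases hy1 : y = 1
      · rw [hy1]; exact S.one_mem
      · rw [h y hy.1 (hy.2 v (hB.mem_adj bot_le hv)) hy1]; exact hB.mem_adj bot_le hv
    have h1 := hB.card_perp hS
    have h2 := Subgroup.card_le_of_le hle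
    have h3 : Nat.card S ≤ 2 := (hB.card_adj bot_le hv).trans (by simp)
    nlinarith
  -- the centraliser of an involution inducing the transvection
  have hCt : ∀ t, t ∈ normalizer (A : Set G) → t * t = 1 →
      (∀ x ∈ A, t * x * t⁻¹ = x * sel (B x v) v) → centralizer {t} ≤ normalizer (A : Set G) := by
    intro t ht ht2 hact
    have htv : t * v = v * t := by
      have := hact v hv
      rw [hB.self v hv, sel_zero, mul_one] at this
      exact mul_inv_eq_iff_eq_mul.mp this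
    -- products of elements from different classes
    have hdih : ∀ p s : G, p * p = 1 → s * s = 1 → (∀ h, h * p * h⁻¹ = s → h * t ≠ t * h) →
        p * t = t * p → s * t = t * s →
        ∃ j, j ≠ 1 ∧ j * p = p * j ∧ j * s = s * j ∧ j * t = t * j ∧
          ((∃ h, h * p * h⁻¹ = p * j ∧ h * t = t * h) ∨ (∃ h, h * p * h⁻¹ = s * j ∧ h * t = t * h)) := by
      intro p s hp hs hnc hpt hst
      have hpi : p⁻¹ = p := inv_eq_of_mul_eq_one_right hp
      have hsi : s⁻¹ = s := inv_eq_of_mul_eq_one_right hs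
      set r := p * s with hr
      have hrs : s = p * r := by rw [hr, ← mul_assoc, hp, one_mul]
      have hflip : ∀ i : ℕ, p * r ^ i * p⁻¹ = (r ^ i)⁻¹ := by
        intro i
        rw [← conj_pow, hr, ← mul_assoc p p s, hp, one_mul, ← inv_pow, mul_inv_rev, hsi]
      have hsq : ∀ i : ℕ, (r ^ i)⁻¹ * p * r ^ i = p * r ^ (2 * i) := by
        intro i
        rw [← hflip i, two_mul, pow_add]
        group
      have hrt : ∀ i : ℕ, r ^ i * t = t * r ^ i := fun i =>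
        (Commute.pow_left (show Commute r t from Commute.mul_left hpt hst) i).eq
      have hrt' : ∀ i : ℕ, (r ^ i)⁻¹ * t = t * (r ^ i)⁻¹ := fun i =>
        ((show Commute (r ^ i) t from hrt i).inv_left).eq
      have hpos : 0 < orderOf r := orderOf_pos r
      rcases Nat.even_or_odd (orderOf r) with ⟨m, hm⟩ | ⟨m, hm⟩
      swap
      · refine absurd (hrt' (m + 1)) (hnc _ ?_)
        rw [inv_inv, hsq, show 2 * (m + 1) = orderOf r + 1 by omega, pow_succ, pow_orderOf_eq_one,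
          one_mul, hrs]
      have hj1 : r ^ m ≠ 1 := pow_ne_one_of_lt_orderOf (by omega) (by omega)
      have hj2 : r ^ m * r ^ m = 1 := by rw [← pow_add, ← hm, pow_orderOf_eq_one]
      have hpj : r ^ m * p = p * r ^ m := by
        have h := hflip m
        rw [inv_eq_of_mul_eq_one_right hj2, mul_inv_eq_iff_eq_mul] at h
        exact h.symm
      have hsj : r ^ m * s = s * r ^ m := by
        rw [hrs, ← mul_assoc, hpj, mul_assoc, mul_assoc, ← pow_succ, ← pow_succ']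
      refine ⟨r ^ m, hj1, hpj, hsj, hrt m, ?_⟩
      rcases Nat.even_or_odd m with ⟨l, hl⟩ | ⟨l, hl⟩
      · refine Or.inl ⟨(r ^ l)⁻¹, ?_, hrt' l⟩
        rw [inv_inv, hsq, hl, two_mul]
      · refine Or.inr ⟨(r ^ (l + 1))⁻¹, ?_, hrt' (l + 1)⟩
        rw [inv_inv, hsq, hrs, mul_assoc, ← pow_succ', hl]
        congr 2
    intro g hg
    by_contra hgN
    have hgt : g * t = t * g := mem_centralizer_singleton_iff.mp hg
    have hgt' : g⁻¹ * t = t * g⁻¹ := ((show Commute g t from hgt).inv_left).eq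
    set v' := g * v * g⁻¹ with hv'
    have hwt : w * t = t * w := by
      have := hact w hw
      rw [hwv, sel_zero, mul_one] at this
      exact (mul_inv_eq_iff_eq_mul.mp this).symm
    have hv't : v' * t = t * v' :=
      ((Commute.mul_left (show Commute g t from hgt) (show Commute v t from htv.symm)).mul_left
        (show Commute g⁻¹ t from hgt')).eq
    have hv'2 : v' * v' = 1 := by rw [hv', conj_mul, hB.sq v hv]; group
    obtain ⟨j, hj1, hjp, hjs, hjt, hcase⟩ := hdih w v' (hB.sq w hw) hv'2 (by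
      intro h hh hht
      set k := g⁻¹ * h with hk
      have hk' : k * w * k⁻¹ = v := by
        calc k * w * k⁻¹ = g⁻¹ * (h * w * h⁻¹) * g := by rw [hk]; group
          _ = v := by rw [hh, hv']; group
      have hkN := hTI k w hw hw1 (hk' ▸ hv)
      have hkt : k * t = t * k := (Commute.mul_left (show Commute g⁻¹ t from hgt')
        (show Commute h t from hht)).eq
      -- `k` fixes the centre of the transvection
      have h1 : k * (t * x₀ * t⁻¹) * k⁻¹ = t * (k * x₀ * k⁻¹) * t⁻¹ := by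
        calc k * (t * x₀ * t⁻¹) * k⁻¹ = k * t * x₀ * (k * t)⁻¹ := by group
          _ = t * k * x₀ * (t * k)⁻¹ := by rw [hkt]
          _ = _ := by group
      have hkx : k * x₀ * k⁻¹ ∈ A := (mem_normalizer_iff.mp hkN x₀).mp hx₀
      rw [hact x₀ hx₀, hx₀v', sel_one, hact _ hkx,
        show k * (x₀ * v) * k⁻¹ = k * x₀ * k⁻¹ * (k * v * k⁻¹) by group, mul_right_inj] at h1
      have hc : ∀ c : ZMod 2, c = 0 ∨ c = 1 := by decide
      rcases hc (B (k * x₀ * k⁻¹) v) with e | e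
      · rw [e, sel_zero] at h1; exact hv1 (by simpa using h1)
      · rw [e, sel_one] at h1
        exact hwne (mul_left_cancel (mul_right_cancel (hk'.trans h1.symm)))) hwt hv't
    have hjN : j ∈ normalizer (A : Set G) := hC w hw hw1 (mem_centralizer_singleton_iff.mpr hjp)
    rcases hcase with ⟨h, hh, -⟩ | ⟨h, hh, -⟩
    · have hm := hSC h w hw (hh ▸ mul_mem (le_normalizer hw) hjN)
      rw [hh] at hm
      have hjA : j ∈ A := by simpa [← mul_assoc] using mul_mem (inv_mem hw) hm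
      exact hgN (hTI g v hv hv1 (hSC g v hv (hC j hjA hj1 (mem_centralizer_singleton_iff.mpr hjs.symm))))
    · have hjN' : g⁻¹ * j * g ∈ normalizer (A : Set G) := by
        refine hC v hv hv1 (mem_centralizer_singleton_iff.mpr ?_)
        calc g⁻¹ * j * g * v = g⁻¹ * (j * v') * g := by rw [hv']; group
          _ = g⁻¹ * (v' * j) * g := by rw [hjs]
          _ = v * (g⁻¹ * j * g) := by rw [hv']; group
      have e : g⁻¹ * h * w * (g⁻¹ * h)⁻¹ = v * (g⁻¹ * j * g) := by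
        calc _ = g⁻¹ * (h * w * h⁻¹) * g := by group
          _ = _ := by rw [hh, hv']; group
      have hm := hSC (g⁻¹ * h) w hw (e ▸ mul_mem (le_normalizer hv) hjN')
      rw [e] at hm
      have hjA : g⁻¹ * j * g ∈ A := by simpa using mul_mem (inv_mem hv) hm
      have hj1' : g⁻¹ * j * g ≠ 1 := fun h0 => hj1 (by
        have := congrArg (fun y => g * y * g⁻¹) h0
        simpa [mul_assoc] using this)
      have hwN : g⁻¹ * w * g⁻¹⁻¹ ∈ normalizer (A : Set G) := by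
        refine hC _ hjA hj1' (mem_centralizer_singleton_iff.mpr ?_)
        calc g⁻¹ * w * g⁻¹⁻¹ * (g⁻¹ * j * g) = g⁻¹ * (w * j) * g := by group
          _ = g⁻¹ * (j * w) * g := by rw [hjp]
          _ = g⁻¹ * j * g * (g⁻¹ * w * g⁻¹⁻¹) := by group
      exact hgN (by simpa using inv_mem (hTI g⁻¹ w hw hw1 (hSC g⁻¹ w hw hwN)))
  have hti : t⁻¹ = t := inv_eq_of_mul_eq_one_right ht2
  have htA : t ∉ A := fun h => hv1 (by
    have e := hact x₀ hx₀
    rw [hx₀v', sel_one, hB.comm h hx₀, mul_inv_cancel_right] at e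
    exact left_eq_mul.mp e)
  -- every conjugate of `t` normalises `A`
  have hconj : ∀ g : G, g * t * g⁻¹ ∈ normalizer (A : Set G) := by
    intro g
    by_contra hgt
    have hg : g ∉ normalizer (A : Set G) := fun h => hgt (mul_mem (mul_mem h ht) (inv_mem h))
    set t' := g * t * g⁻¹ with ht'
    have ht'2 : t' * t' = 1 := by rw [ht', conj_mul, ht2]; group
    have hnc : ∀ h, h * w * h⁻¹ ≠ t' := by
      intro h e
      refine htA ?_
      have e2 : g⁻¹ * h * w * (g⁻¹ * h)⁻¹ = t := by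
        calc _ = g⁻¹ * (h * w * h⁻¹) * g := by group
          _ = t := by rw [e, ht']; group
      exact e2 ▸ hSC _ w hw (e2.symm ▸ ht)
    have hwi : w⁻¹ = w := hB.inv_self hw
    have hsi : t'⁻¹ = t' := inv_eq_of_mul_eq_one_right ht'2
    set r := w * t' with hr
    have hrs : t' = w * r := by rw [hr, ← mul_assoc, hB.sq w hw, one_mul]
    have hflip : ∀ i : ℕ, w * r ^ i * w⁻¹ = (r ^ i)⁻¹ := by
      intro i
      rw [← conj_pow, hr, ← mul_assoc w w t', hB.sq w hw, one_mul, ← inv_pow, mul_inv_rev, hsi]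
    have hsq : ∀ i : ℕ, (r ^ i)⁻¹ * w * r ^ i = w * r ^ (2 * i) := by
      intro i
      rw [← hflip i, two_mul, pow_add]
      group
    have hpos : 0 < orderOf r := orderOf_pos r
    rcases Nat.even_or_odd (orderOf r) with ⟨m, hm⟩ | ⟨m, hm⟩
    swap
    · refine hnc (r ^ (m + 1))⁻¹ ?_
      rw [inv_inv, hsq, show 2 * (m + 1) = orderOf r + 1 by omega, pow_succ, pow_orderOf_eq_one,
        one_mul, hrs]
    set j := r ^ m with hj
    have hj1 : j ≠ 1 := pow_ne_one_of_lt_orderOf (by omega) (by omega)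
    have hj2 : j * j = 1 := by rw [hj, ← pow_add, ← hm, pow_orderOf_eq_one]
    have hjw : j * w = w * j := by
      have h := hflip m
      rw [← hj, inv_eq_of_mul_eq_one_right hj2, mul_inv_eq_iff_eq_mul] at h
      exact h.symm
    have hjs : j * t' = t' * j := by
      rw [hrs, ← mul_assoc, hjw, mul_assoc, mul_assoc, hj, ← pow_succ, ← pow_succ']
    have hjN : j ∈ normalizer (A : Set G) := hC w hw hw1 (mem_centralizer_singleton_iff.mpr hjw)
    rcases Nat.even_or_odd m with ⟨l, hl⟩ | ⟨l, hl⟩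
    · have e : (r ^ l)⁻¹ * w * ((r ^ l)⁻¹)⁻¹ = w * j := by rw [inv_inv, hsq, hj, hl, two_mul]
      have hmA := hSC _ w hw (e.symm ▸ mul_mem (le_normalizer hw) hjN)
      rw [e] at hmA
      have hjA : j ∈ A := by simpa [← mul_assoc] using mul_mem (inv_mem hw) hmA
      exact hgt (hC j hjA hj1 (mem_centralizer_singleton_iff.mpr hjs.symm))
    · have e : (r ^ (l + 1))⁻¹ * w * ((r ^ (l + 1))⁻¹)⁻¹ = t' * j := by
        rw [inv_inv, hsq, hj, hrs, mul_assoc, ← pow_succ', hl]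
        congr 2
      have hjt : g⁻¹ * j * g * t = t * (g⁻¹ * j * g) := by
        calc g⁻¹ * j * g * t = g⁻¹ * (j * t') * g := by rw [ht']; group
          _ = g⁻¹ * (t' * j) * g := by rw [hjs]
          _ = t * (g⁻¹ * j * g) := by rw [ht']; group
      have e2 : g⁻¹ * (r ^ (l + 1))⁻¹ * w * (g⁻¹ * (r ^ (l + 1))⁻¹)⁻¹ = t * (g⁻¹ * j * g) := by
        calc _ = g⁻¹ * ((r ^ (l + 1))⁻¹ * w * ((r ^ (l + 1))⁻¹)⁻¹) * g := by group
          _ = _ := by rw [e, ht']; group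
      set j' := g⁻¹ * j * g with hj'
      have hj'N : j' ∈ normalizer (A : Set G) := hCt t ht ht2 hact (mem_centralizer_singleton_iff.mpr hjt)
      have haA := hSC _ w hw (e2.symm ▸ mul_mem ht hj'N)
      rw [e2] at haA
      -- `j'` acts on `A` as `t` does
      have hj'2 : j' * j' = 1 := by
        rw [hj', show g⁻¹ * j * g * (g⁻¹ * j * g) = g⁻¹ * (j * j) * g by group, hj2]; group
      have hw'N : g⁻¹ * w * g⁻¹⁻¹ ∈ centralizer {j'} := mem_centralizer_singleton_iff.mpr (by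
        calc g⁻¹ * w * g⁻¹⁻¹ * j' = g⁻¹ * (w * j) * g := by rw [hj']; group
          _ = g⁻¹ * (j * w) * g := by rw [hjw]
          _ = j' * (g⁻¹ * w * g⁻¹⁻¹) := by rw [hj']; group)
      have hCj : centralizer {j'} ≤ normalizer (A : Set G) := by
        refine hCt j' hj'N hj'2 fun x hx => ?_
        have hjta : j' = t⁻¹ * (t * j') := (inv_mul_cancel_left t j').symm
        have e3 : j' * x * j'⁻¹ = t⁻¹ * (t * j' * x * (t * j')⁻¹) * t := by group
        rw [e3, hB.comm haA hx, mul_inv_cancel_right]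
        conv_lhs => arg 2; rw [← hti]
        rw [hti, ← hact x hx]
        congr 1
        exact hti.symm
      exact hg (by simpa using inv_mem (hTI g⁻¹ w hw hw1 (hSC g⁻¹ w hw (hCj hw'N))))
  rw [eq_top_iff]
  intro g _
  have e : g * v * g⁻¹ = g * x₀ * t * (g * x₀)⁻¹ * (g * t * g⁻¹)⁻¹ := by
    have h := hact x₀ hx₀
    rw [hx₀v', sel_one] at h
    have hv2 : v = x₀ * (t * x₀ * t⁻¹) := by rw [h, hB.mul_cancel_self hx₀]
    have hv3 : v = x₀ * t * x₀⁻¹ * t⁻¹ := by rw [hv2, hB.inv_self hx₀]; group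
    rw [hv3]; group
  have hN := mul_mem (hconj (g * x₀)) (inv_mem (hconj g))
  rw [← e] at hN
  exact hTI g v hv hv1 (hSC g v hv hN)

/-- With an involution inducing a transvection, `A` is normal. -/
theorem eq_top [Finite G] (hbig : 64 ≤ Nat.card A)
    (hC : ∀ a ∈ A, a ≠ 1 → centralizer {a} ≤ normalizer (A : Set G))
    (hself : normalizer (A : Set G) ⊓ centralizer A ≤ A) (htr : HasTransv A B)
    {t v : G} (ht : t ∈ normalizer (A : Set G)) (ht2 : t * t = 1) (hv : v ∈ A) (hv1 : v ≠ 1)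
    (hact : ∀ x ∈ A, t * x * t⁻¹ = x * sel (B x v) v) :
    normalizer (A : Set G) = ⊤ :=
  hB.eq_top_of_closed (by omega) hC hself htr (fun g _ ha h => hB.strongly_closed hbig hC
    (hB.ti (by omega) hC hself htr) hself htr g ha h) ht ht2 hv hv1 hact

end Alt

end Cfsg.Agent.Lib.SympFusion78
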