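import Cfsg.Agent.Lib.SympFusion78.Main
import Cfsg.Agent.Lib.SympFusion78.Alt

/-!
The fusion step with hypotheses on the singular elements only: an elementary abelian 2-subgroup `A`
of order at least 64 with an invariant quadratic form, containing in its normaliser the centralisers
of its singular elements, is normal. The centralisers of the non-singular elements are dealt with in
the quotient by their centres.
-/

set_option autoImplicit false
set_option maxHeartbeats 1000000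

namespace Cfsg.Agent.Lib.SympFusion78

open Subgroup
open Quad (HasTransvPairs SingIrred NsMove)

variable {G : Type*} [Group G]

/-- The hypotheses on the singular elements. -/
structure Fus (A : Subgroup G) (q : G → ZMod 2) : Prop where
  quad : Quad A q
  cent : ∀ a ∈ A, a ≠ 1 → q a = 0 → centralizer {a} ≤ normalizer (A : Set G)
  fus : ∀ g a, a ∈ A → g * a * g⁻¹ ∈ A → q (g * a * g⁻¹) = q a
  self : normalizer (A : Set G) ⊓ centralizer A ≤ A
  pairs : HasTransvPairs A q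

/-- A subgroup of index two of the centraliser of the non-singular element `c`. -/
structure Half (A : Subgroup G) (q : G → ZMod 2) (c : G) (L : Subgroup G) : Prop where
  le : L ≤ centralizer {c}
  mem : ∀ a ∈ A, pol q a c = 0 → a ∈ L
  not_mem : ∀ a ∈ A, pol q a c = 1 → a ∉ L
  index : ∀ g ∈ centralizer {c}, g ∉ L → ∀ a ∈ A, pol q a c = 1 → g * a ∈ L
  pair : ∀ w ∈ A, pol q w c = 0 → q w = 1 → ∃ n ∈ normalizer (A : Set G), n ∈ L ∧ n * n = w * c ∧
    ∀ x ∈ A, pol q x c = 0 → n * x * n⁻¹ = x * sel (pol q x w) w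
  centre : ∀ g ∈ normalizer (A : Set G), g ∈ L → (∀ x ∈ A, pol q x c = 0 → g * x * g⁻¹ = x) →
    ∃ a ∈ A, pol q a c = 0 ∧ ∀ h ∈ L, a * g * h = h * (a * g)
  invol : ∀ z ∈ normalizer (A : Set G), z ∈ L → z * z = 1 → (∀ h ∈ L, z * h = h * z) →
    (∀ x ∈ A, pol q x c = 0 → z * x * z⁻¹ = x) → z = 1 ∨ z = c

/-- No totally singular subgroup of order eight. -/
def NoSingularEight (A : Subgroup G) (q : G → ZMod 2) : Prop :=
  ∀ a ∈ A, ∀ b ∈ A, ∀ c ∈ A, q a = 0 → q b = 0 → q c = 0 →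
    pol q a b = 0 → pol q a c = 0 → pol q b c = 0 →
    a = 1 ∨ b = 1 ∨ c = 1 ∨ a = b ∨ a = c ∨ b = c ∨ a * b = c

namespace Quad

variable {A : Subgroup G} {q : G → ZMod 2} (hQ : Quad A q)
include hQ

theorem inv_self {a : G} (ha : a ∈ A) : a⁻¹ = a := inv_eq_of_mul_eq_one_right (hQ.sq a ha)

theorem mul_cancel_self {a : G} (ha : a ∈ A) (x : G) : a * (a * x) = x := by
  rw [← mul_assoc, hQ.sq a ha, one_mul]

theorem ne_one {a : G} (h : q a = 1) : a ≠ 1 := fun e => by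
  rw [e, hQ.q_one] at h; exact zero_ne_one h

theorem q_mul_ns {a c : G} (ha : a ∈ A) (hc : c ∈ A) (hqc : q c = 1) (h : pol q a c = 0) :
    q (a * c) = q a + 1 := by rw [hQ.q_mul ha hc, hqc, h, add_zero]

theorem singIrred_three [Finite G] (hbig : 64 ≤ Nat.card A) (hm : NoSingularEight A q)
    (htr : HasTransvPairs A q) : SingIrred A q := by
  intro I b c₀ hIA hbI hb1 hqb hc₀I hc₀1 hc₀b horth hinv
  have hb := hIA hbI
  let S := hQ.adj ⊥ bot_le b hb
  have hS : S ≤ A := hQ.adj_le bot_le hb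
  have hcS : Nat.card S ≤ 2 := (hQ.card_adj bot_le hb).trans (by simp)
  have hbS : b ∈ S := hQ.mem_adj bot_le hb
  have h01 : ∀ a : ZMod 2, a = 0 ∨ a = 1 := by decide
  have hnS : ∀ {c}, c ≠ 1 → c ≠ b → c ∉ S := by
    intro c hc1 hcb h
    rcases h with h | h
    · exact hc1 (Subgroup.mem_bot.mp h)
    · rw [Subgroup.mem_bot] at h
      exact hcb (by rw [eq_inv_of_mul_eq_one_right h, hQ.inv_self hb])
  have hsmall : ∀ {c} (hc : c ∈ A), Nat.card (hQ.adj S hS c hc) ^ 2 < Nat.card A := by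
    intro c hc
    have h1 := hQ.card_adj hS hc
    have := Nat.pow_le_pow_left (show Nat.card (hQ.adj S hS c hc) ≤ 4 by omega) 2
    omega
  have hns : ∀ c ∈ I, c ≠ 1 → c ≠ b → ∀ x ∈ A, pol q x b = 0 → pol q x c = 1 → q x = 1 → x ∈ I := by
    intro c hcI hc1 hcb x hx hxb hxc hqx
    have hc := hIA hcI
    obtain ⟨w, hw, hqw, hwc⟩ := hQ.exists_ns hS (one_mem _) hc (hsmall hc)
    rw [hQ.pol_one hc] at hwc
    obtain ⟨h, hh, hact⟩ := htr x hx w hw.1 hqx hqw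
    have e1 : h * b * h⁻¹ = b := (hact b hb (by rw [hQ.pol_comm hb hw.1]; exact hw.2 b hbS)).1
      (by rw [hQ.pol_comm hb hx, hxb])
    have e2 := (hact c hc (by rw [hQ.pol_comm hc hw.1, hwc])).2 (by rw [hQ.pol_comm hc hx, hxc])
    have e3 := mul_mem (inv_mem hcI) (e2 ▸ hinv h hh e1 c hcI)
    rwa [inv_mul_cancel_left] at e3
  -- the case of a singular element
  have hsing : ∀ c ∈ I, c ≠ 1 → c ≠ b → q c = 0 → ∀ x ∈ A, pol q x b = 0 → x ∈ I := by
    intro c hcI hc1 hcb hqc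
    have hc := hIA hcI
    obtain ⟨v₀, hv₀, hv₀c⟩ := hQ.exists_sep hS hc (hnS hc1 hcb)
    have hL : ∀ v ∈ A, pol q v b = 0 → pol q v c = 1 → v ∈ I := by
      intro v hv hvb hvc
      rcases h01 (q v) with e | e
      · have h := hns c hcI hc1 hcb (v * c) (mul_mem hv hc)
          (by rw [hQ.add v hv c hc b hb, hvb, horth c hcI, add_zero])
          (by rw [hQ.add v hv c hc c hc, hvc, hQ.pol_self hc, add_zero])
          (by rw [hQ.q_mul hv hc, e, hqc, hvc, add_zero, zero_add])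
        have := mul_mem h (inv_mem hcI)
        rwa [mul_inv_cancel_right] at this
      · exact hns c hcI hc1 hcb v hv hvb hvc e
    intro x hx hxb
    rcases h01 (pol q x c) with e | e
    · have k := hL (x * v₀) (mul_mem hx hv₀.1)
        (by rw [hQ.add x hx v₀ hv₀.1 b hb, hxb, hv₀.2 b hbS, add_zero])
        (by rw [hQ.add x hx v₀ hv₀.1 c hc, e, hv₀c, zero_add])
      have := mul_mem k (inv_mem (hL v₀ hv₀.1 (hv₀.2 b hbS) hv₀c))
      rwa [mul_inv_cancel_right] at this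
    · exact hL x hx hxb e
  rcases h01 (q c₀) with hqc | hqc
  · exact hsing c₀ hc₀I hc₀1 hc₀b hqc
  have hc₀ := hIA hc₀I
  obtain ⟨v₀, hv₀, hv₀c⟩ := hQ.exists_sep hS hc₀ (hnS hc₀1 hc₀b)
  obtain ⟨s, hs, hqs, hsc⟩ := hQ.exists_ns hS hv₀ hc₀ (hsmall hc₀)
  rw [hv₀c] at hsc
  have hsI : s ∈ I := hns c₀ hc₀I hc₀1 hc₀b s hs.1 (hs.2 b hbS) hsc hqs
  let T := hQ.adj S hS c₀ hc₀
  have hT : T ≤ A := hQ.adj_le hS hc₀
  let W := hQ.adj T hT s hs.1
  have hW : W ≤ A := hQ.adj_le hT hs.1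
  have hcW : Nat.card W ≤ 8 := by
    have h1 : Nat.card T ≤ 2 * Nat.card S := hQ.card_adj hS hc₀
    have h2 : Nat.card W ≤ 2 * Nat.card T := hQ.card_adj hT hs.1
    omega
  have hsW : s ∈ W := hQ.mem_adj hT hs.1
  have hcW' : c₀ ∈ W := hQ.le_adj hT hs.1 (hQ.mem_adj hS hc₀)
  have hbW : b ∈ W := hQ.le_adj hT hs.1 (hQ.le_adj hS hc₀ hbS)
  obtain ⟨y, hy, y', hy', hyy⟩ := hQ.exists_pair hW (Or.inr ⟨by
    have := Nat.pow_le_pow_left hcW 2
    omega, s, hsW, c₀, hcW', by rw [hsc]; exact one_ne_zero⟩)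
  have hgood : ∀ u ∈ hQ.perp W hW, q u = 0 → u ≠ 1 → u ≠ b → ∀ x ∈ A, pol q x b = 0 → x ∈ I := by
    intro u hu hqu hu1 hub
    have huI : u ∈ I := by
      have h := hns c₀ hc₀I hc₀1 hc₀b (s * u) (mul_mem hs.1 hu.1)
        (by rw [hQ.add s hs.1 u hu.1 b hb, hs.2 b hbS, hu.2 b hbW, add_zero])
        (by rw [hQ.add s hs.1 u hu.1 c₀ hc₀, hsc, hu.2 c₀ hcW', add_zero])
        (by rw [hQ.q_mul hs.1 hu.1, hqs, hqu, hQ.pol_comm hs.1 hu.1, hu.2 s hsW, add_zero, add_zero])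
      have := mul_mem (inv_mem hsI) h
      rwa [inv_mul_cancel_left] at this
    exact hsing u huI hu1 hub hqu
  have hpb : ∀ u ∈ hQ.perp W hW, pol q b u = 0 := fun u hu => by
    rw [hQ.pol_comm hb hu.1]; exact hu.2 b hbW
  have hy1 : y ≠ 1 := fun e => by rw [e, hQ.pol_one hy'.1] at hyy; exact zero_ne_one hyy
  have hy'1 : y' ≠ 1 := fun e => by
    rw [e, hQ.pol_comm hy.1 A.one_mem, hQ.pol_one hy.1] at hyy; exact zero_ne_one hyy
  have hyb : y ≠ b := fun e => by rw [e, hpb y' hy'] at hyy; exact zero_ne_one hyy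
  have hy'b : y' ≠ b := fun e => by
    rw [e, hQ.pol_comm hy.1 hb, hpb y hy] at hyy; exact zero_ne_one hyy
  rcases h01 (q y) with e | e
  · exact hgood y hy e hy1 hyb
  rcases h01 (q y') with e' | e'
  · exact hgood y' hy' e' hy'1 hy'b
  -- a totally singular subgroup of order eight
  exfalso
  have hsy : pol q c₀ s = 1 := by rw [hQ.pol_comm hc₀ hs.1, hsc]
  have p1 : pol q c₀ y = 0 := by rw [hQ.pol_comm hc₀ hy.1]; exact hy.2 c₀ hcW'
  have p2 : pol q c₀ y' = 0 := by rw [hQ.pol_comm hc₀ hy'.1]; exact hy'.2 c₀ hcW'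
  have q1 : q (c₀ * y) = 0 := by
    rw [hQ.q_mul hc₀ hy.1, hqc, e, p1]; rfl
  have q2 : q (s * y') = 0 := by
    rw [hQ.q_mul hs.1 hy'.1, hqs, e', hQ.pol_comm hs.1 hy'.1, hy'.2 s hsW]; rfl
  have r1 : pol q b (c₀ * y) = 0 := by
    rw [hQ.add_right hb hc₀ hy.1, hQ.pol_comm hb hc₀, horth c₀ hc₀I, hpb y hy, add_zero]
  have r2 : pol q b (s * y') = 0 := by
    rw [hQ.add_right hb hs.1 hy'.1, hQ.pol_comm hb hs.1, hs.2 b hbS, hpb y' hy', add_zero]
  have r3 : pol q (c₀ * y) (s * y') = 0 := by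
    rw [hQ.add c₀ hc₀ y hy.1 _ (mul_mem hs.1 hy'.1), hQ.add_right hc₀ hs.1 hy'.1,
      hQ.add_right hy.1 hs.1 hy'.1, hsy, p2, hy.2 s hsW, hyy]
    rfl
  -- pairings separating the elements
  have t1 : pol q (c₀ * y) s = 1 := by
    rw [hQ.add c₀ hc₀ y hy.1 s hs.1, hsy, hy.2 s hsW, add_zero]
  have t2 : pol q (s * y') s = 0 := by
    rw [hQ.add s hs.1 y' hy'.1 s hs.1, hQ.pol_self hs.1, hy'.2 s hsW, add_zero]
  have t3 : pol q (s * y') c₀ = 1 := by
    rw [hQ.add s hs.1 y' hy'.1 c₀ hc₀, hsc, hy'.2 c₀ hcW', add_zero]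
  have t4 : pol q b s = 0 := by rw [hQ.pol_comm hb hs.1]; exact hs.2 b hbS
  have t5 : pol q b c₀ = 0 := by rw [hQ.pol_comm hb hc₀]; exact horth c₀ hc₀I
  rcases hm b hb (c₀ * y) (mul_mem hc₀ hy.1) (s * y') (mul_mem hs.1 hy'.1) hqb q1 q2 r1 r2 r3 with
    h | h | h | h | h | h | h
  · exact hb1 h
  · rw [h, hQ.pol_one hs.1] at t1; exact zero_ne_one t1
  · rw [h, hQ.pol_one hc₀] at t3; exact zero_ne_one t3
  · rw [← h, t4] at t1; exact zero_ne_one t1
  · rw [← h, t5] at t3; exact zero_ne_one t3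
  · rw [h, t2] at t1; exact zero_ne_one t1
  · rw [← h, hQ.add b hb _ (mul_mem hc₀ hy.1) s hs.1, t4, t1] at t2; exact one_ne_zero t2

theorem nsMove_small [Finite G] (hbig : 64 ≤ Nat.card A) (htr : HasTransvPairs A q) : NsMove A q := by
  intro t a ht hqt ha ha1 hat hpa
  let S := hQ.adj ⊥ bot_le a ha
  have hS : S ≤ A := hQ.adj_le bot_le ha
  have hcS : Nat.card S ≤ 2 := (hQ.card_adj bot_le ha).trans (by simp)
  have hc2 := hQ.card_adj hS ht
  have hsmall : Nat.card (hQ.adj S hS t ht) ^ 2 < Nat.card A := by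
    have := Nat.pow_le_pow_left (show Nat.card (hQ.adj S hS t ht) ≤ 4 by omega) 2
    omega
  have htS : t ∉ S := by
    rintro (h | h)
    · exact hQ.ne_one hqt (Subgroup.mem_bot.mp h)
    · rw [Subgroup.mem_bot] at h
      exact hat (by rw [eq_inv_of_mul_eq_one_left h, hQ.inv_self ht])
  obtain ⟨v₀, hv₀, hv₀t⟩ := hQ.exists_sep hS ht htS
  obtain ⟨v, hv, hqv, hvt⟩ := hQ.exists_ns hS hv₀ ht hsmall
  obtain ⟨w, hw, hqw, hwt⟩ := hQ.exists_ns hS (one_mem _) ht hsmall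
  rw [hQ.pol_one ht] at hwt
  rw [hv₀t] at hvt
  obtain ⟨h, hh, hact⟩ := htr v hv.1 w hw.1 hqv hqw
  have haS : a ∈ S := hQ.mem_adj bot_le ha
  refine ⟨h, hh, (hact a ha (by rw [hQ.pol_comm ha hw.1]; exact hw.2 a haS)).1
    (by rw [hQ.pol_comm ha hv.1]; exact hv.2 a haS), ?_⟩
  rw [(hact t ht (by rw [hQ.pol_comm ht hw.1, hwt])).2 (by rw [hQ.pol_comm ht hv.1, hvt]),
    hQ.add t ht v hv.1 t ht, hQ.pol_self ht, hvt, zero_add]

end Quad

namespace Fus

variable {A : Subgroup G} {q : G → ZMod 2} (hF : Fus A q)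
include hF

/-- In order 64 the exceptional configuration of the quotient does not occur. -/
theorem exceptional [Finite G] (h64 : Nat.card A = 64) {c : G} (hc : c ∈ A) (hqc : q c = 1)
    {L : Subgroup G} (hL : Half A q c L)
    (hTI : ∀ k ∈ L, ∀ v ∈ A, pol q v c = 0 → v ≠ 1 → v ≠ c → k * v * k⁻¹ ∈ A →
      pol q (k * v * k⁻¹) c = 0 → k ∈ normalizer (A : Set G))
    {g : G} (hgL : g ∈ L) {a₀ : G} (ha₀ : a₀ ∈ A) (ha₀c : pol q a₀ c = 0) (hqa₀ : q a₀ = 0)
    (ha₀1 : a₀ ≠ 1) (hy : g * a₀ * g⁻¹ ∈ normalizer (A : Set G)) (hyA : g * a₀ * g⁻¹ ∉ A) :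
    False := by
  classical
  have hQ := hF.quad
  have h01 : ∀ a : ZMod 2, a = 0 ∨ a = 1 := by decide
  have hc1 := hQ.ne_one hqc
  have hg : g ∉ normalizer (A : Set G) := fun h => hyA ((mem_normalizer_iff.mp h a₀).mp ha₀)
  have hgc : g * c = c * g := mem_centralizer_singleton_iff.mp (hL.le hgL)
  have hqac : ∀ a ∈ A, pol q a c = 0 → q (a * c) = q a + 1 := fun a ha h => hQ.q_mul_ns ha hc hqc h
  let S := hQ.adj ⊥ bot_le c hc
  have hS : S ≤ A := hQ.adj_le bot_le hc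
  have hcmS : c ∈ S := hQ.mem_adj bot_le hc
  have hScases : ∀ s ∈ S, s = 1 ∨ s = c := by
    intro s hs
    rcases hs with hs | hs
    · exact Or.inl (Subgroup.mem_bot.mp hs)
    · rw [Subgroup.mem_bot] at hs
      exact Or.inr (by rw [eq_inv_of_mul_eq_one_right hs, hQ.inv_self hc])
  have hcS : Nat.card S = 2 := by
    refine le_antisymm ((hQ.card_adj bot_le hc).trans (by simp)) ?_
    by_contra! h
    have : S = ⊥ := Subgroup.eq_bot_of_card_le S (by omega)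
    rw [this] at hcmS
    exact hc1 (Subgroup.mem_bot.mp hcmS)
  let P := hQ.perp S hS
  have hP : ∀ {x}, x ∈ P ↔ x ∈ A ∧ pol q x c = 0 := by
    intro x
    refine ⟨fun h => ⟨h.1, h.2 c hcmS⟩, fun h => ⟨h.1, fun s hs => ?_⟩⟩
    rcases hScases s hs with rfl | rfl
    · rw [hQ.pol_comm h.1 A.one_mem, hQ.pol_one h.1]
    · exact h.2
  have hPA : P ≤ A := hQ.perp_le hS
  have hPL : P ≤ L := fun x hx => hL.mem x (hP.mp hx).1 (hP.mp hx).2
  have hcP : c ∈ P := hP.mpr ⟨hc, hQ.pol_self hc⟩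
  have hcardP : Nat.card P = 32 := by
    have := hQ.card_perp hS
    rw [hcS, h64] at this
    show Nat.card (hQ.perp S hS) = 32
    omega
  have hdiv : ∀ {T : Subgroup G}, T ≤ P → Nat.card T ∣ 32 :=
    fun h => hcardP ▸ Subgroup.card_dvd_of_le h
  have hcardcover : ∀ {T : Subgroup G}, c ∈ T → (∀ t ∈ T, t = 1 ∨ t = c) → Nat.card T ≤ 2 := by
    intro T _ h
    exact hcS ▸ Subgroup.card_le_of_le (fun t ht => by
      rcases h t ht with rfl | rfl
      · exact S.one_mem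
      · exact hcmS)
  -- elements of `A` conjugate under `g` into `A`
  have hI : ∀ v ∈ A, g * v * g⁻¹ ∈ A → pol q (g * v * g⁻¹) c = 0 →
      g * v * g⁻¹ = 1 ∨ g * v * g⁻¹ = c := by
    intro v hv hvA hvc
    have hvc' : pol q v c = 0 := by
      rcases h01 (pol q v c) with e | e
      · exact e
      · refine absurd ?_ (hL.not_mem v hv e)
        have := mul_mem (mul_mem (inv_mem hgL) (hL.mem _ hvA hvc)) hgL
        simpa [mul_assoc] using this
    by_contra! hne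
    refine hg (hTI g hgL v hv hvc' (fun e => hne.1 ?_) (fun e => hne.2 ?_) hvA hvc)
    · rw [e]; group
    · rw [e, hgc, mul_inv_cancel_right]
  let U : Subgroup G := P ⊓ (normalizer (A : Set G)).comap (MulAut.conj g⁻¹).toMonoidHom
  let U' : Subgroup G := P ⊓ (normalizer (A : Set G)).comap (MulAut.conj g).toMonoidHom
  have hU : ∀ {u}, u ∈ U ↔ u ∈ P ∧ g⁻¹ * u * g ∈ normalizer (A : Set G) := by
    intro u; simp [U]
  have hU' : ∀ {v}, v ∈ U' ↔ v ∈ P ∧ g * v * g⁻¹ ∈ normalizer (A : Set G) := by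
    intro v; simp [U']
  have hcU : c ∈ U := hU.mpr ⟨hcP, by
    rw [mul_assoc, ← hgc, inv_mul_cancel_left]; exact le_normalizer hc⟩
  have hcU' : c ∈ U' := hU'.mpr ⟨hcP, by rw [hgc, mul_inv_cancel_right]; exact le_normalizer hc⟩
  have hYL : ∀ v ∈ U', g * v * g⁻¹ ∈ L :=
    fun v hv => mul_mem (mul_mem hgL (hPL (hU'.mp hv).1)) (inv_mem hgL)
  have hYc : ∀ v ∈ U', g * v * g⁻¹ * c * (g * v * g⁻¹)⁻¹ = c := fun v hv =>
    mul_inv_eq_of_eq_mul (mem_centralizer_singleton_iff.mp (hL.le (hYL v hv)))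
  have hY2 : ∀ v ∈ U', g * v * g⁻¹ * (g * v * g⁻¹) = 1 := fun v hv => by
    rw [conj_mul, hQ.sq v (hPA (hU'.mp hv).1)]; group
  -- displacements
  let d : G → G → G := fun v z => z * (g * v * g⁻¹ * z * (g * v * g⁻¹)⁻¹)
  have hYz : ∀ v ∈ U', ∀ z ∈ A, g * v * g⁻¹ * z * (g * v * g⁻¹)⁻¹ ∈ A :=
    fun v hv z hz => (mem_normalizer_iff.mp (hU'.mp hv).2 z).mp hz
  have hdA : ∀ v ∈ U', ∀ z ∈ A, d v z ∈ A := fun v hv z hz => mul_mem hz (hYz v hv z hz)
  have hact : ∀ v z, z ∈ A → g * v * g⁻¹ * z * (g * v * g⁻¹)⁻¹ = z * d v z := by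
    intro v z hz
    show _ = z * (z * _)
    rw [hQ.mul_cancel_self hz]
  have hqd : ∀ v ∈ U', ∀ z ∈ A, q (d v z) = pol q z (d v z) := by
    intro v hv z hz
    have h := hQ.inv _ (hU'.mp hv).2 z hz
    rw [hact v z hz, hQ.q_mul hz (hdA v hv z hz), add_assoc, add_eq_left] at h
    exact CharTwo.add_eq_zero.mp h
  have hdc : ∀ v ∈ U', ∀ z ∈ A, pol q (d v z) c = 0 := by
    intro v hv z hz
    have h := hQ.pol_inv (hU'.mp hv).2 hz hc
    rw [hYc v hv, hact v z hz, hQ.add z hz _ (hdA v hv z hz) c hc, add_eq_left] at h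
    exact h
  have hdmul : ∀ v ∈ U', ∀ z ∈ A, ∀ z' ∈ A, d v (z * z') = d v z * d v z' := by
    intro v hv z hz z' hz'
    show z * z' * _ = z * _ * (z' * _)
    rw [mul_assoc z (g * v * g⁻¹ * z * _), ← mul_assoc _ z', hQ.comm (hYz v hv z hz) hz']
    group
  have hddd : ∀ v ∈ U', ∀ z ∈ A, g * v * g⁻¹ * d v z * (g * v * g⁻¹)⁻¹ = d v z := by
    intro v hv z hz
    have hYi := inv_eq_of_mul_eq_one_right (hY2 v hv)
    have h2 := hY2 v hv
    show g * v * g⁻¹ * (z * (g * v * g⁻¹ * z * (g * v * g⁻¹)⁻¹)) * (g * v * g⁻¹)⁻¹ = _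
    conv_lhs => arg 1; arg 2; rw [hQ.comm hz (hYz v hv z hz)]
    show _ = z * (g * v * g⁻¹ * z * (g * v * g⁻¹)⁻¹)
    simp only [hYi]
    generalize g * v * g⁻¹ = Y at h2 ⊢
    simp only [← mul_assoc, h2, one_mul]
  have hdsymm : ∀ v ∈ U', ∀ z ∈ A, ∀ w ∈ A, pol q (d v z) w = pol q z (d v w) := by
    intro v hv z hz w hw
    have h := hqd v hv _ (mul_mem hz hw)
    rw [hdmul v hv z hz w hw, hQ.q_mul (hdA v hv z hz) (hdA v hv w hw), hqd v hv z hz, hqd v hv w hw,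
      hQ.add z hz w hw _ (mul_mem (hdA v hv z hz) (hdA v hv w hw)),
      hQ.add_right hz (hdA v hv z hz) (hdA v hv w hw),
      hQ.add_right hw (hdA v hv z hz) (hdA v hv w hw), hQ.pol_comm hw (hdA v hv z hz)] at h
    have hdd : pol q (d v z) (d v w) = 0 := by
      have e1 : g * v * g⁻¹ * (d v w) * (g * v * g⁻¹)⁻¹ = d v w := hddd v hv w hw
      show pol q (z * (g * v * g⁻¹ * z * (g * v * g⁻¹)⁻¹)) (d v w) = 0
      rw [hQ.add z hz _ (hYz v hv z hz) _ (hdA v hv w hw)]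
      conv_lhs => arg 2; arg 3; rw [← e1]
      rw [hQ.pol_inv (hU'.mp hv).2 hz (hdA v hv w hw), CharTwo.add_self_eq_zero]
    rw [hdd] at h
    have : ∀ p r s t : ZMod 2, p + r + 0 = p + s + (t + r) → t = s := by decide
    exact this _ _ _ _ h
  have hdne : ∀ v ∈ U', ∀ z ∈ P, d v z ≠ c := by
    intro v hv z hz e
    have h := hqd v hv z (hPA hz)
    rw [e, hqc, (hP.mp hz).2] at h
    exact one_ne_zero h
  have hcomm : ∀ v ∈ U', ∀ x ∈ A, g⁻¹ * x * g ∈ normalizer (A : Set G) → d v x = 1 ∨ d v x = c := by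
    intro v hv x hx hx'
    have hvA := hPA (hU'.mp hv).1
    have e : d v x = g * (g⁻¹ * x * g * v * (g⁻¹ * x * g)⁻¹ * v⁻¹) * g⁻¹ := by
      show x * (g * v * g⁻¹ * x * (g * v * g⁻¹)⁻¹) = _
      rw [show g * (g⁻¹ * x * g * v * (g⁻¹ * x * g)⁻¹ * v⁻¹) * g⁻¹ =
        x * (g * v * g⁻¹ * x⁻¹ * (g * v * g⁻¹)⁻¹) by group, hQ.inv_self hx]
    have h := hI _ (mul_mem ((mem_normalizer_iff.mp hx' v).mp hvA) (inv_mem hvA))
      (e ▸ hdA v hv x hx) (e ▸ hdc v hv x hx)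
    rwa [← e] at h
  have hdinU : ∀ v ∈ U', ∀ u ∈ U, d v u = 1 := fun v hv u hu =>
    (hcomm v hv u (hPA (hU.mp hu).1) (hU.mp hu).2).resolve_right (hdne v hv u (hU.mp hu).1)
  have hfixA : ∀ v ∈ U', v ≠ 1 → q v = 0 → ∀ x ∈ A, d v x = 1 →
      g⁻¹ * x * g ∈ normalizer (A : Set G) := by
    intro v hv hv1 hqv x hx hd
    refine hF.cent v (hPA (hU'.mp hv).1) hv1 hqv (mem_centralizer_singleton_iff.mpr ?_)
    have e : g * v * g⁻¹ * x = x * (g * v * g⁻¹) := by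
      have h := hact v x hx
      rw [hd, mul_one] at h
      exact mul_inv_eq_iff_eq_mul.mp h
    calc g⁻¹ * x * g * v = g⁻¹ * (x * (g * v * g⁻¹)) * g := by group
      _ = g⁻¹ * (g * v * g⁻¹ * x) * g := by rw [e]
      _ = v * (g⁻¹ * x * g) := by group
  have hdc1 : ∀ z ∈ A, d c z = 1 := by
    intro z hz
    show z * (g * c * g⁻¹ * z * (g * c * g⁻¹)⁻¹) = 1
    rw [hgc, mul_inv_cancel_right, hQ.comm hc hz, mul_inv_cancel_right, hQ.sq z hz]
  have hdU : ∀ v ∈ U', v ≠ 1 → q v = 0 → ∀ z ∈ A, d v z ∈ U := by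
    intro v hv hv1 hqv z hz
    refine hU.mpr ⟨hP.mpr ⟨hdA v hv z hz, hdc v hv z hz⟩, hfixA v hv hv1 hqv _ (hdA v hv z hz) ?_⟩
    show d v z * (g * v * g⁻¹ * d v z * (g * v * g⁻¹)⁻¹) = 1
    rw [hddd v hv z hz, hQ.sq _ (hdA v hv z hz)]
  -- an involution of the normaliser fixes a large part of `P`
  have hbigfix : ∀ T : Subgroup G, ∀ k, k ∈ normalizer (A : Set G) → k ∈ L → k * k = 1 →
      (∀ z ∈ P, k * z = z * k → z ∈ T) → T ≤ P → 8 ≤ Nat.card T := by
    intro T k hk hkL hk2 hT hTP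
    have hki := inv_eq_of_mul_eq_one_right hk2
    have hkP : ∀ z ∈ P, k * z * k⁻¹ ∈ P := fun z hz => by
      refine hP.mpr ⟨(mem_normalizer_iff.mp hk z).mp (hPA hz), ?_⟩
      have hkc : k * c * k⁻¹ = c :=
        mul_inv_eq_of_eq_mul (mem_centralizer_singleton_iff.mp (hL.le hkL))
      conv_lhs => arg 3; rw [← hkc]
      rw [hQ.pol_inv hk (hPA hz) hc, (hP.mp hz).2]
    let f : P →* G :=
      { toFun := fun z => z * (k * z * k⁻¹)
        map_one' := by simp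
        map_mul' := fun a b => by
          show (a : G) * b * (k * (a * b) * k⁻¹) = a * (k * a * k⁻¹) * (b * (k * b * k⁻¹))
          rw [show k * ((a : G) * b) * k⁻¹ = k * a * k⁻¹ * (k * b * k⁻¹) by group,
            mul_assoc (a : G) b, ← mul_assoc (b : G) (k * a * k⁻¹),
            hQ.comm (hPA b.2) (hPA (hkP a a.2))]
          group }
    have h1 : Nat.card f.ker ≤ Nat.card T := by
      refine le_trans (le_of_eq ?_) (Subgroup.card_le_of_le (show f.ker.map P.subtype ≤ T from ?_))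
      · exact Nat.card_congr (Subgroup.equivMapOfInjective _ _ P.subtype_injective).toEquiv
      · rintro _ ⟨z, hz, rfl⟩
        have h : (z : G) * (k * z * k⁻¹) = 1 := hz
        refine hT z z.2 (mul_inv_eq_iff_eq_mul.mp ?_)
        rw [eq_inv_of_mul_eq_one_right h, hQ.inv_self (hPA z.2)]
    have h2 : Nat.card f.range ≤ Nat.card T := by
      refine Subgroup.card_le_of_le ?_
      rintro _ ⟨z, rfl⟩
      refine hT _ (mul_mem z.2 (hkP z z.2)) ?_
      show k * ((z : G) * (k * z * k⁻¹)) = (z : G) * (k * z * k⁻¹) * k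
      conv_rhs => rw [hQ.comm (hPA z.2) (hPA (hkP z z.2))]
      rw [hki]
      simp only [mul_assoc, hk2, mul_one]
    have h3 := f.ker.card_mul_index
    rw [index_ker, hcardP] at h3
    have h4 := Nat.mul_le_mul h1 h2
    rw [h3] at h4
    have hle : Nat.card T ≤ 32 := Nat.le_of_dvd (by norm_num) (hdiv hTP)
    have h5 := hdiv hTP
    interval_cases h : Nat.card T <;> omega
  have hU8 : 8 ≤ Nat.card U := by
    refine hbigfix U (g * a₀ * g⁻¹) hy (mul_mem (mul_mem hgL (hL.mem a₀ ha₀ ha₀c)) (inv_mem hgL))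
      (by rw [conj_mul, hQ.sq a₀ ha₀]; group) (fun z hz e => ?_) inf_le_left
    refine hU.mpr ⟨hz, hF.cent a₀ ha₀ ha₀1 hqa₀ (mem_centralizer_singleton_iff.mpr ?_)⟩
    calc g⁻¹ * z * g * a₀ = g⁻¹ * (z * (g * a₀ * g⁻¹)) * g := by group
      _ = g⁻¹ * (g * a₀ * g⁻¹ * z) * g := by rw [e]
      _ = a₀ * (g⁻¹ * z * g) := by group
  obtain ⟨u₀, hu₀, hu₀1, hqu₀⟩ : ∃ u ∈ U, u ≠ 1 ∧ q u = 0 := by
    obtain ⟨u, hu, hu1, huc⟩ : ∃ u ∈ U, u ≠ 1 ∧ u ≠ c := by
      by_contra! h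
      have := hcardcover hcU fun t ht => (eq_or_ne t 1).imp id fun e => h t ht e
      omega
    rcases h01 (q u) with e | e
    · exact ⟨u, hu, hu1, e⟩
    · refine ⟨u * c, mul_mem hu hcU, fun h => huc ?_, ?_⟩
      · rw [eq_inv_of_mul_eq_one_left h, hQ.inv_self hc]
      · rw [hqac u (hPA (hU.mp hu).1) (hP.mp (hU.mp hu).1).2, e]; rfl
  have hU'8 : 8 ≤ Nat.card U' := by
    refine hbigfix U' (g⁻¹ * u₀ * g) (hU.mp hu₀).2
      (mul_mem (mul_mem (inv_mem hgL) (hPL (hU.mp hu₀).1)) hgL)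
      (by rw [show g⁻¹ * u₀ * g * (g⁻¹ * u₀ * g) = g⁻¹ * (u₀ * u₀) * g by group,
        hQ.sq u₀ (hPA (hU.mp hu₀).1)]; group) (fun z hz e => ?_) inf_le_left
    refine hU'.mpr ⟨hz, hF.cent u₀ (hPA (hU.mp hu₀).1) hu₀1 hqu₀
      (mem_centralizer_singleton_iff.mpr ?_)⟩
    calc g * z * g⁻¹ * u₀ = g * (z * (g⁻¹ * u₀ * g)) * g⁻¹ := by group
      _ = g * (g⁻¹ * u₀ * g * z) * g⁻¹ := by rw [e]
      _ = u₀ * (g * z * g⁻¹) := by group
  have hdadd : ∀ v ∈ U', ∀ v' ∈ U', v' ≠ 1 → q v' = 0 → ∀ z ∈ A,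
      d (v * v') z = d v z * d v' z := by
    intro v hv v' hv' hv'1 hqv' z hz
    show z * (g * (v * v') * g⁻¹ * z * (g * (v * v') * g⁻¹)⁻¹) = _
    rw [show g * (v * v') * g⁻¹ * z * (g * (v * v') * g⁻¹)⁻¹ =
      g * v * g⁻¹ * (g * v' * g⁻¹ * z * (g * v' * g⁻¹)⁻¹) * (g * v * g⁻¹)⁻¹ by group,
      hact v' z hz, show g * v * g⁻¹ * (z * d v' z) * (g * v * g⁻¹)⁻¹ =
      g * v * g⁻¹ * z * (g * v * g⁻¹)⁻¹ * (g * v * g⁻¹ * d v' z * (g * v * g⁻¹)⁻¹) by group,
      hact v z hz, hact v (d v' z) (hdA v' hv' z hz),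
      hdinU v hv _ (hdU v' hv' hv'1 hqv' z hz), mul_one, ← mul_assoc, hQ.mul_cancel_self hz]
  -- three elements
  have hsingrep : ∀ v ∈ U', v ≠ 1 → v ≠ c →
      ∃ v' ∈ U', v' ≠ 1 ∧ q v' = 0 ∧ (v' = v ∨ v' = v * c) := by
    intro v hv hv1 hvc
    rcases h01 (q v) with e | e
    · exact ⟨v, hv, hv1, e, Or.inl rfl⟩
    · refine ⟨v * c, mul_mem hv hcU', fun h => hvc ?_, ?_, Or.inr rfl⟩
      · rw [eq_inv_of_mul_eq_one_left h, hQ.inv_self hc]
      · rw [hqac v (hPA (hU'.mp hv).1) (hP.mp (hU'.mp hv).1).2, e]; rfl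
  obtain ⟨v₁, hv₁, hv₁1, hqv₁, -⟩ : ∃ v ∈ U', v ≠ 1 ∧ q v = 0 ∧ True := by
    obtain ⟨v, hv, hv1, hvc⟩ : ∃ v ∈ U', v ≠ 1 ∧ v ≠ c := by
      by_contra! h
      have := hcardcover hcU' fun t ht => (eq_or_ne t 1).imp id fun e => h t ht e
      omega
    obtain ⟨v', h1, h2, h3, -⟩ := hsingrep v hv hv1 hvc
    exact ⟨v', h1, h2, h3, trivial⟩
  have hv₁A := hPA (hU'.mp hv₁).1
  obtain ⟨v₂, hv₂, hv₂1, hqv₂, hv₂₁, hv₂₁c⟩ :
      ∃ v ∈ U', v ≠ 1 ∧ q v = 0 ∧ v ≠ v₁ ∧ v ≠ v₁ * c := by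
    let T := hQ.adj S hS v₁ hv₁A
    obtain ⟨v, hv, hvT⟩ : ∃ v ∈ U', v ∉ T := by
      by_contra! h
      have h2 := (Subgroup.card_le_of_le (show U' ≤ T from h)).trans (hQ.card_adj hS hv₁A)
      omega
    obtain ⟨v', h1, h2, h3, hcase⟩ := hsingrep v hv
      (fun e => hvT (e ▸ (T.one_mem))) (fun e => hvT (e ▸ hQ.le_adj hS hv₁A hcmS))
    refine ⟨v', h1, h2, h3, fun e => hvT ?_, fun e => hvT ?_⟩
    · rcases hcase with h | h <;> rw [h] at e
      · rw [e]; exact hQ.mem_adj hS hv₁A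
      · rw [show v = v₁ * c by rw [← e, mul_assoc, hQ.sq c hc, mul_one]]
        exact mul_mem (hQ.mem_adj hS hv₁A) (hQ.le_adj hS hv₁A hcmS)
    · rcases hcase with h | h <;> rw [h] at e
      · rw [e]; exact mul_mem (hQ.mem_adj hS hv₁A) (hQ.le_adj hS hv₁A hcmS)
      · rw [mul_right_cancel e]; exact hQ.mem_adj hS hv₁A
  have hv₂A := hPA (hU'.mp hv₂).1
  obtain ⟨v₃, hv₃, hv₃1, hqv₃, hd₃⟩ :
      ∃ v ∈ U', v ≠ 1 ∧ q v = 0 ∧ ∀ z ∈ A, d v z = d v₁ z * d v₂ z := by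
    obtain ⟨v', h1, h2, h3, hcase⟩ := hsingrep (v₁ * v₂) (mul_mem hv₁ hv₂)
      (fun e => hv₂₁ (by rw [eq_inv_of_mul_eq_one_right e, hQ.inv_self hv₁A]))
      (fun e => hv₂₁c (by rw [← e, hQ.mul_cancel_self hv₁A]))
    refine ⟨v', h1, h2, h3, fun z hz => ?_⟩
    have e12 := hdadd v₁ hv₁ v₂ hv₂ hv₂1 hqv₂ z hz
    rcases hcase with h | h <;> rw [h]
    · exact e12
    · show z * (g * (v₁ * v₂ * c) * g⁻¹ * z * (g * (v₁ * v₂ * c) * g⁻¹)⁻¹) = _
      rw [show g * (v₁ * v₂ * c) * g⁻¹ * z * (g * (v₁ * v₂ * c) * g⁻¹)⁻¹ =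
        g * (v₁ * v₂) * g⁻¹ * (g * c * g⁻¹ * z * (g * c * g⁻¹)⁻¹) * (g * (v₁ * v₂) * g⁻¹)⁻¹ by group,
        hgc, mul_inv_cancel_right, hQ.comm hc hz, mul_inv_cancel_right]
      exact e12
  have hUne : ∃ z ∈ P, z ∉ U := by
    by_contra! hall
    obtain ⟨x₀, hx₀, hne⟩ := hQ.nondeg c hc hc1
    have hx₀c : pol q x₀ c = 1 := by
      rw [hQ.pol_comm hx₀ hc]; exact (h01 _).resolve_left hne
    have hkey : ∀ v ∈ U', v ≠ 1 → v ≠ c → q v = 0 → d v x₀ = c := by
      intro v hv hv1 hvc hqv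
      have hdA' := hdA v hv x₀ hx₀
      have hmem : d v x₀ ∈ hQ.perp P hPA := ⟨hdA', fun t ht => by
        rw [hdsymm v hv x₀ hx₀ t (hPA ht), hdinU v hv t (hall t ht), hQ.pol_comm hx₀ A.one_mem,
          hQ.pol_one hx₀]⟩
      have hperpP : hQ.perp P hPA = S := by
        refine (Subgroup.eq_of_le_of_card_ge (show S ≤ hQ.perp P hPA from
          fun t ht => ⟨hS ht, fun u hu => ?_⟩) ?_).symm
        · rw [hQ.pol_comm (hS ht) (hPA hu)]; exact hu.2 t ht
        · have h' := hQ.card_perp hPA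
          rw [h64, hcardP] at h'
          omega
      rw [hperpP] at hmem
      refine (hScases _ hmem).resolve_left fun e => ?_
      have htriv : ∀ z ∈ A, d v z = 1 := by
        intro z hz
        rcases h01 (pol q z c) with h | h
        · exact hdinU v hv z (hall z (hP.mpr ⟨hz, h⟩))
        · have hzx : z * x₀ ∈ U := hall _ (hP.mpr ⟨mul_mem hz hx₀, by
            rw [hQ.add z hz x₀ hx₀ c hc, h, hx₀c]; rfl⟩)
          have h' := hdinU v hv _ hzx
          rw [hdmul v hv z hz x₀ hx₀, e, mul_one] at h'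
          exact h'
      have hYA : g * v * g⁻¹ ∈ A := hF.self ⟨(hU'.mp hv).2, fun z hz => by
        have h' := hact v z hz
        rw [htriv z hz, mul_one] at h'
        exact (mul_inv_eq_iff_eq_mul.mp h').symm⟩
      have hYp : pol q (g * v * g⁻¹) c = 0 := by
        rcases h01 (pol q (g * v * g⁻¹) c) with h | h
        · exact h
        · exact absurd (hYL v hv) (hL.not_mem _ hYA h)
      rcases hI v (hPA (hU'.mp hv).1) hYA hYp with h | h
      · exact hv1 (by simpa using h)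
      · refine hvc ?_
        calc v = g⁻¹ * (g * v * g⁻¹) * g := by group
          _ = c := by rw [h, mul_assoc, ← hgc, inv_mul_cancel_left]
    have hne' : ∀ v, q v = 0 → v ≠ c := fun v h e => by rw [e, hqc] at h; exact one_ne_zero h
    have h := hkey v₃ hv₃ hv₃1 (hne' _ hqv₃) hqv₃
    rw [hd₃ x₀ hx₀, hkey v₁ hv₁ hv₁1 (hne' _ hqv₁) hqv₁, hkey v₂ hv₂ hv₂1 (hne' _ hqv₂) hqv₂,
      hQ.sq c hc] at h
    exact hc1 h.symm
  -- `U` has order eight and is its own orthogonal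
  have hUA : U ≤ A := inf_le_left.trans hPA
  have hUperp : hQ.perp U hUA = U := by
    have hdP : ∀ v ∈ U', v ≠ 1 → q v = 0 → ∀ z ∈ A, d v z ∈ U ⊓ hQ.perp U hUA := by
      intro v hv hv1 hqv z hz
      refine ⟨hdU v hv hv1 hqv z hz, hdA v hv z hz, fun u hu => ?_⟩
      rw [hdsymm v hv z hz u (hUA hu), hdinU v hv u hu, hQ.pol_comm hz A.one_mem, hQ.pol_one hz]
    let D : P →* G :=
      { toFun := fun z => d v₁ z
        map_one' := hdinU v₁ hv₁ 1 U.one_mem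
        map_mul' := fun z z' => hdmul v₁ hv₁ z (hPA z.2) z' (hPA z'.2) }
    have hker : Nat.card D.ker ≤ Nat.card U := by
      refine le_trans (le_of_eq ?_) (Subgroup.card_le_of_le (show D.ker.map P.subtype ≤ U from ?_))
      · exact Nat.card_congr (Subgroup.equivMapOfInjective _ _ P.subtype_injective).toEquiv
      · rintro _ ⟨z, hz, rfl⟩
        exact hU.mpr ⟨z.2, hfixA v₁ hv₁ hv₁1 hqv₁ z (hPA z.2) hz⟩
    have hcU'' : c ∈ U ⊓ hQ.perp U hUA :=
      ⟨hcU, hc, fun u hu => by rw [hQ.pol_comm hc (hUA hu)]; exact (hP.mp (hU.mp hu).1).2⟩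
    have hran : 2 * Nat.card D.range ≤ Nat.card (U ⊓ hQ.perp U hUA : Subgroup G) := by
      have hle : D.range ≤ U ⊓ hQ.perp U hUA := by
        rintro _ ⟨z, rfl⟩; exact hdP v₁ hv₁ hv₁1 hqv₁ z (hPA z.2)
      have hnc : c ∉ D.range := by
        rintro ⟨z, hz⟩; exact hdne v₁ hv₁ z z.2 hz
      have hlt : D.range < U ⊓ hQ.perp U hUA := lt_of_le_of_ne hle fun e => hnc (e ▸ hcU'')
      obtain ⟨m, hm⟩ := Subgroup.card_dvd_of_le hle
      rw [hm, mul_comm 2]
      refine Nat.mul_le_mul_left _ ?_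
      by_contra! hm1
      interval_cases m
      · have : 0 < Nat.card (U ⊓ hQ.perp U hUA : Subgroup G) := Nat.card_pos
        omega
      · exact hlt.ne (Subgroup.eq_of_le_of_card_ge hle (by omega))
    have h3 := D.ker.card_mul_index
    rw [index_ker, hcardP] at h3
    have h4 := hQ.card_perp hUA
    rw [h64] at h4
    have h5 := Subgroup.card_le_of_le (show U ⊓ hQ.perp U hUA ≤ hQ.perp U hUA from inf_le_right)
    have h6 := Nat.mul_le_mul hker (le_refl (Nat.card D.range))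
    rw [h3] at h6
    have hUdvd := hdiv (show U ≤ P from inf_le_left)
    have hU32 : Nat.card U ≤ 32 := Nat.le_of_dvd (by norm_num) hUdvd
    have hUlt : Nat.card U < 32 := by
      obtain ⟨z, hz, hzU⟩ := hUne
      refine lt_of_le_of_ne hU32 fun e => hzU ?_
      rwa [Subgroup.eq_of_le_of_card_ge (show U ≤ P from inf_le_left) (by omega)]
    have hU8' : Nat.card U = 8 := by
      interval_cases h : Nat.card U <;> try omega
      · -- order sixteen
        exfalso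
        have hrad : Nat.card (hQ.perp U hUA) = 4 := by omega
        have hSU : S ≤ U ⊓ hQ.perp U hUA := fun t ht => by
          rcases hScases t ht with rfl | rfl
          · exact one_mem _
          · exact hcU''
        obtain ⟨z₀, hz₀, hz₀U⟩ := hUne
        have hne : ∀ v ∈ U', v ≠ 1 → q v = 0 → d v z₀ ∉ S := by
          intro v hv hv1 hqv hmem
          rcases hScases _ hmem with e | e
          · exact hz₀U (hU.mpr ⟨hz₀, hfixA v hv hv1 hqv z₀ (hPA hz₀) e⟩)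
          · exact hdne v hv z₀ hz₀ e
        let T := hQ.adj S hS (d v₁ z₀) (hdA v₁ hv₁ z₀ (hPA hz₀))
        have hTle : T ≤ hQ.perp U hUA := fun t ht => by
          rcases ht with ht | ht
          · exact (hSU ht).2
          · have h7 := Subgroup.mul_mem _ (Subgroup.inv_mem _ (hdP v₁ hv₁ hv₁1 hqv₁ z₀ (hPA hz₀)).2) (hSU ht).2
            rwa [inv_mul_cancel_left] at h7
        have hST : Nat.card S < Nat.card T := by
          refine lt_of_le_of_ne (Subgroup.card_le_of_le (hQ.le_adj hS _)) fun e => ?_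
          exact hne v₁ hv₁ hv₁1 hqv₁
            (Subgroup.eq_of_le_of_card_ge (hQ.le_adj hS _) e.ge ▸ hQ.mem_adj hS _)
        have hTeq : T = hQ.perp U hUA := by
          refine Subgroup.eq_of_le_of_card_ge hTle ?_
          obtain ⟨m, hm⟩ := Subgroup.card_dvd_of_le hTle
          rw [hrad] at hm ⊢
          have : Nat.card T ≤ 4 := hrad ▸ Subgroup.card_le_of_le hTle
          interval_cases hT : Nat.card T <;> omega
        have hmem := (hdP v₂ hv₂ hv₂1 hqv₂ z₀ (hPA hz₀)).2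
        rw [← hTeq] at hmem
        rcases hmem with hmem | hmem
        · exact hne v₂ hv₂ hv₂1 hqv₂ hmem
        · have hd12 := hd₃ z₀ (hPA hz₀)
          exact hne v₃ hv₃ hv₃1 hqv₃ (hd12.symm ▸ hmem)
    refine (Subgroup.eq_of_le_of_card_ge (fun t ht => ?_) (by rw [hU8'] at h4 ⊢; omega)).symm
    have hle : U ⊓ hQ.perp U hUA = U := by
      refine Subgroup.eq_of_le_of_card_ge inf_le_left ?_
      have h7 : 4 ≤ Nat.card D.range := by
        rw [hU8'] at h6; omega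
      rw [hU8'] at h4 ⊢
      omega
    exact (hle.symm ▸ ht : t ∈ U ⊓ hQ.perp U hUA).2
  -- the linear form `q` on `U`
  let K : Subgroup G :=
    { carrier := {u | u ∈ U ∧ q u = 0}
      one_mem' := ⟨U.one_mem, hQ.q_one⟩
      mul_mem' := fun {a b} ha hb => ⟨mul_mem ha.1 hb.1, by
        have hb' : b ∈ hQ.perp U hUA := hUperp.symm ▸ hb.1
        rw [hQ.q_mul (hUA ha.1) (hUA hb.1), ha.2, hb.2, hQ.pol_comm (hUA ha.1) (hUA hb.1),
          hb'.2 a ha.1, add_zero, add_zero]⟩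
      inv_mem' := fun {a} ha => by
        show a⁻¹ ∈ U ∧ q a⁻¹ = 0
        rw [hQ.inv_self (hUA ha.1)]; exact ha }
  have hKA : K ≤ A := fun u hu => hUA hu.1
  obtain ⟨z₁, hz₁, hz₁c⟩ := hQ.exists_sep hKA hc (fun h => by
    rw [h.2] at hqc; exact zero_ne_one hqc)
  have hz₁q : ∀ t ∈ U, pol q z₁ t = q t := by
    intro t ht
    rcases h01 (q t) with e | e
    · rw [hz₁.2 t ⟨ht, e⟩, e]
    · have h : t * c ∈ K := ⟨mul_mem ht hcU, by rw [hqac t (hUA ht) (hP.mp (hU.mp ht).1).2, e]; rfl⟩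
      have := hz₁.2 _ h
      rw [hQ.add_right hz₁.1 (hUA ht) hc, hz₁c] at this
      rw [e]; exact CharTwo.add_eq_zero.mp this
  -- the form attached to a displacement
  have hdiag : ∀ v ∈ U', v ≠ 1 → q v = 0 → ∀ z ∈ A, pol q z (d v z) = pol q (d v z₁) z := by
    intro v hv hv1 hqv z hz
    rw [← hqd v hv z hz, ← hz₁q _ (hdU v hv hv1 hqv z hz), hdsymm v hv z₁ hz₁.1 z hz]
  have hnd : ∀ v ∈ U', v ≠ 1 → q v = 0 → ∀ z ∈ P, z ∉ U → ∀ p ∈ P, ∀ w ∈ P, p ∉ U → w ∉ U →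
      p * w ∉ U → pol q z (d v p) = 0 → pol q z (d v w) = 0 → False := by
    intro v hv hv1 hqv z hz hzU p hp w hw hpU hwU hpwU h1 h2
    let T := hQ.adj U hUA p (hPA hp)
    have hT : T ≤ A := hQ.adj_le hUA (hPA hp)
    let T' := hQ.adj T hT w (hPA hw)
    have hwT : w ∉ T := by
      rintro (h | h)
      · exact hwU h
      · exact hpwU h
    have hT'P : T' ≤ P := by
      have hTP : T ≤ P := fun t ht => by
        rcases ht with ht | ht
        · exact (hU.mp ht).1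
        · simpa using mul_mem (inv_mem hp) (hU.mp ht).1
      intro t ht
      rcases ht with ht | ht
      · exact hTP ht
      · simpa using mul_mem (inv_mem hw) (hTP ht)
    have hlt1 : Nat.card U < Nat.card T :=
      lt_of_le_of_ne (Subgroup.card_le_of_le (hQ.le_adj hUA _)) fun e =>
        hpU (Subgroup.eq_of_le_of_card_ge (hQ.le_adj hUA _) e.ge ▸ hQ.mem_adj hUA _)
    have hlt2 : Nat.card T < Nat.card T' :=
      lt_of_le_of_ne (Subgroup.card_le_of_le (hQ.le_adj hT _)) fun e =>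
        hwT (Subgroup.eq_of_le_of_card_ge (hQ.le_adj hT _) e.ge ▸ hQ.mem_adj hT _)
    have hTP' : T' = P := by
      refine Subgroup.eq_of_le_of_card_ge hT'P ?_
      have d1 : Nat.card U ∣ Nat.card T := Subgroup.card_dvd_of_le (hQ.le_adj hUA _)
      have d2 : Nat.card T ∣ Nat.card T' := Subgroup.card_dvd_of_le (hQ.le_adj hT _)
      obtain ⟨m, hm⟩ := d1
      obtain ⟨m', hm'⟩ := d2
      have hm2 : 2 ≤ m := by
        by_contra! hlt
        interval_cases m <;> omega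
      have hm'2 : 2 ≤ m' := by
        by_contra! hlt
        interval_cases m' <;> omega
      rw [hcardP, hm', hm]
      calc 32 = 8 * 2 * 2 := rfl
        _ ≤ _ := Nat.mul_le_mul (Nat.mul_le_mul hU8 hm2) hm'2
    have hdzA := hdA v hv z (hPA hz)
    have key : ∀ t ∈ T', pol q (d v z) t = 0 := by
      have hTk : ∀ t ∈ T, pol q (d v z) t = 0 := by
        intro t ht
        have hU0 : ∀ u ∈ U, pol q (d v z) u = 0 := fun u hu => by
          rw [hdsymm v hv z (hPA hz) u (hUA hu), hdinU v hv u hu, hQ.pol_comm (hPA hz) A.one_mem,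
            hQ.pol_one (hPA hz)]
        rcases ht with ht | ht
        · exact hU0 t ht
        · have hp0 : pol q (d v z) p = 0 := by rw [hdsymm v hv z (hPA hz) p (hPA hp), h1]
          rw [show t = p * (p * t) from (hQ.mul_cancel_self (hPA hp) t).symm,
            hQ.add_right hdzA (hPA hp) (hUA ht), hp0, hU0 _ ht, add_zero]
      intro t ht
      rcases ht with ht | ht
      · exact hTk t ht
      · have hw0 : pol q (d v z) w = 0 := by rw [hdsymm v hv z (hPA hz) w (hPA hw), h2]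
        rw [show t = w * (w * t) from (hQ.mul_cancel_self (hPA hw) t).symm,
          hQ.add_right hdzA (hPA hw) (hT ht), hw0, hTk _ ht, add_zero]
    have hmem : d v z ∈ hQ.perp P hPA := ⟨hdzA, fun t ht => key t (hTP' ▸ ht)⟩
    have hperpP : hQ.perp P hPA = S := by
      refine (Subgroup.eq_of_le_of_card_ge (show S ≤ hQ.perp P hPA from
        fun s hs => ⟨hS hs, fun t ht => ?_⟩) ?_).symm
      · rw [hQ.pol_comm (hS hs) (hPA ht)]; exact ht.2 s hs
      · have := hQ.card_perp hPA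
        rw [h64, hcardP] at this
        omega
    rw [hperpP] at hmem
    rcases hScases _ hmem with e | e
    · exact hzU (hU.mpr ⟨hz, hfixA v hv hv1 hqv z (hPA hz) e⟩)
    · exact hdne v hv z hz e
  -- the plane
  have hplane : ∀ v ∈ U', v ≠ 1 → q v = 0 → ∀ z₀ ∈ P, ∀ p ∈ P, ∀ w ∈ P, p ∉ U → w ∉ U → p * w ∉ U →
      (z₀ ∈ U ∨ z₀ = p) → (∀ z ∈ P, pol q (d v z₁) z = pol q (d v z₀) z) →
      pol q p (d v w) = 1 ∧ pol q z₀ (d v z₀) = 0 := by
    intro v hv hv1 hqv z₀ hz₀ p hp w hw hpU hwU hpwU hcase hrel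
    have hD : ∀ z ∈ P, pol q z (d v z) = pol q z₀ (d v z) := fun z hz => by
      rw [hdiag v hv hv1 hqv z (hPA hz), hrel z hz, hdsymm v hv z₀ (hPA hz₀) z (hPA hz)]
    have hsym : pol q w (d v p) = pol q p (d v w) := by
      rw [← hdsymm v hv p (hPA hp) w (hPA hw), hQ.pol_comm (hdA v hv p (hPA hp)) (hPA hw)]
    rcases hcase with h0 | h0
    · have hz0 : ∀ z ∈ P, pol q z (d v z) = 0 := fun z hz => by
        rw [hD z hz, ← hdsymm v hv z₀ (hPA hz₀) z (hPA hz), hdinU v hv z₀ h0, hQ.pol_one (hPA hz)]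
      refine ⟨?_, hz0 z₀ hz₀⟩
      rcases h01 (pol q p (d v w)) with e | e
      · exact (hnd v hv hv1 hqv p hp hpU p hp w hw hpU hwU hpwU (hz0 p hp) e).elim
      · exact e
    · subst h0
      have hb : pol q z₀ (d v w) = 1 := by
        rcases h01 (pol q z₀ (d v w)) with e | e
        · exact (hnd v hv hv1 hqv w hw hwU z₀ hp w hw hpU hwU hpwU (by rw [hsym, e])
            (by rw [hD w hw, e])).elim
        · exact e
      refine ⟨hb, ?_⟩
      rcases h01 (pol q z₀ (d v z₀)) with e | e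
      · exact e
      · refine (hnd v hv hv1 hqv (z₀ * w) (mul_mem hp hw) hpwU z₀ hp w hw hpU hwU hpwU ?_ ?_).elim
        · rw [hQ.add z₀ (hPA hp) w (hPA hw) _ (hdA v hv z₀ (hPA hp)), e, hsym, hb]; rfl
        · rw [hQ.add z₀ (hPA hp) w (hPA hw) _ (hdA v hv w (hPA hw)), hD w hw, hb]; rfl
  have hplane' : ∀ z₀ ∈ P, ∃ p ∈ P, ∃ w ∈ P, p ∉ U ∧ w ∉ U ∧ p * w ∉ U ∧ (z₀ ∈ U ∨ z₀ = p) := by
    intro z₀ hz₀
    obtain ⟨p, hp, hpU, hcase⟩ : ∃ p ∈ P, p ∉ U ∧ (z₀ ∈ U ∨ z₀ = p) := by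
      by_cases h : z₀ ∈ U
      · obtain ⟨p, hp, hpU⟩ : ∃ p ∈ P, p ∉ U := by
          by_contra! hh
          have hPU : P ≤ U := hh
          have hU4 := hQ.card_perp hUA
          rw [hUperp, h64] at hU4
          have := Subgroup.card_le_of_le hPU
          nlinarith
        exact ⟨p, hp, hpU, Or.inl h⟩
      · exact ⟨z₀, hz₀, h, Or.inr rfl⟩
    let T := hQ.adj U hUA p (hPA hp)
    obtain ⟨w, hw, hwT⟩ : ∃ w ∈ P, w ∉ T := by
      by_contra! hh
      have h2 : Nat.card P ≤ 2 * Nat.card U :=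
        (Subgroup.card_le_of_le (show P ≤ T from hh)).trans (hQ.card_adj hUA _)
      have hU4 := hQ.card_perp hUA
      rw [hUperp, h64] at hU4
      nlinarith
    exact ⟨p, hp, w, hw, hpU, fun h => hwT (hQ.le_adj hUA _ h), fun h => hwT (Or.inr h), hcase⟩
  -- an element off `P` fixed by one of the three
  have hsurj : ∀ v ∈ U', v ≠ 1 → q v = 0 → ∃ z₀ ∈ P, d v z₀ * d v z₁ ∈ S := by
    intro v hv hv1 hqv
    let D : P →* G :=
      { toFun := fun z => d v z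
        map_one' := hdinU v hv 1 U.one_mem
        map_mul' := fun z z' => hdmul v hv z (hPA z.2) z' (hPA z'.2) }
    have hker : Nat.card D.ker ≤ Nat.card U := by
      refine le_trans (le_of_eq ?_) (Subgroup.card_le_of_le (show D.ker.map P.subtype ≤ U from ?_))
      · exact Nat.card_congr (Subgroup.equivMapOfInjective _ _ P.subtype_injective).toEquiv
      · rintro _ ⟨z, hz, rfl⟩
        exact hU.mpr ⟨z.2, hfixA v hv hv1 hqv z (hPA z.2) hz⟩
    have hran : D.range ≤ U := by rintro _ ⟨z, rfl⟩; exact hdU v hv hv1 hqv z (hPA z.2)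
    have hnc : c ∉ D.range := by rintro ⟨z, hz⟩; exact hdne v hv z z.2 hz
    let T := hQ.adj D.range (hran.trans hUA) c hc
    have hTU : T = U := by
      refine Subgroup.eq_of_le_of_card_ge (fun t ht => ?_) ?_
      · rcases ht with ht | ht
        · exact hran ht
        · simpa using mul_mem (inv_mem hcU) (hran ht)
      · have hU4 := hQ.card_perp hUA
        rw [hUperp, h64] at hU4
        have hU8' : Nat.card U = 8 := by nlinarith
        have h3 := D.ker.card_mul_index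
        rw [index_ker, hcardP] at h3
        rw [hU8'] at hker ⊢
        have h4 : 4 ≤ Nat.card D.range := by nlinarith
        have hlt : Nat.card D.range < Nat.card T :=
          lt_of_le_of_ne (Subgroup.card_le_of_le (hQ.le_adj _ _)) fun e =>
            hnc (Subgroup.eq_of_le_of_card_ge (hQ.le_adj _ _) e.ge ▸ hQ.mem_adj _ _)
        obtain ⟨m, hm⟩ : Nat.card D.range ∣ Nat.card T :=
          Subgroup.card_dvd_of_le (hQ.le_adj (hran.trans hUA) hc)
        have hm2 : 2 ≤ m := by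
          by_contra! hlt'
          interval_cases m <;> omega
        calc 8 = 4 * 2 := rfl
          _ ≤ Nat.card D.range * m := Nat.mul_le_mul h4 hm2
          _ = _ := hm.symm
    have hmem : d v z₁ ∈ T := hTU.symm ▸ hdU v hv hv1 hqv z₁ hz₁.1
    rcases hmem with hmem | hmem
    · obtain ⟨z, hz⟩ := hmem
      refine ⟨z, z.2, ?_⟩
      rw [show d v z = d v z₁ from hz, hQ.sq _ (hdA v hv z₁ hz₁.1)]
      exact S.one_mem
    · obtain ⟨z, hz⟩ := hmem
      refine ⟨z, z.2, ?_⟩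
      rw [show d v z = c * d v z₁ from hz, mul_assoc, hQ.sq _ (hdA v hv z₁ hz₁.1), mul_one]
      exact hcmS
  have hrelOf : ∀ v ∈ U', ∀ z₀ ∈ P, d v z₀ * d v z₁ ∈ S →
      ∀ z ∈ P, pol q (d v z₁) z = pol q (d v z₀) z := by
    intro v hv z₀ hz₀ hmem z hz
    have h1A := hdA v hv z₀ (hPA hz₀)
    have h2A := hdA v hv z₁ hz₁.1
    rcases hScases _ hmem with e | e
    · rw [eq_inv_of_mul_eq_one_right e, hQ.inv_self h1A]
    · rw [show d v z₁ = d v z₀ * c by rw [← e, hQ.mul_cancel_self h1A],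
        hQ.add _ h1A c hc z (hPA hz), hQ.pol_comm hc (hPA hz), (hP.mp hz).2, add_zero]
  have hx : ∃ v ∈ U', v ≠ 1 ∧ q v = 0 ∧ ∃ z₀ ∈ P, d v (z₁ * z₀) = 1 := by
    by_contra! hno
    have hs : ∀ v ∈ U', v ≠ 1 → q v = 0 → pol q z₁ (d v z₁) = 1 := by
      intro v hv hv1 hqv
      obtain ⟨z₀, hz₀, hmem⟩ := hsurj v hv hv1 hqv
      obtain ⟨p, hp, w, hw, hpU, hwU, hpwU, hcase⟩ := hplane' z₀ hz₀
      have hrel := hrelOf v hv z₀ hz₀ hmem
      obtain ⟨-, hdd⟩ := hplane v hv hv1 hqv z₀ hz₀ p hp w hw hpU hwU hpwU hcase hrel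
      rcases h01 (pol q z₁ (d v z₁)) with e | e
      · exfalso
        refine hno v hv hv1 hqv z₀ hz₀ ?_
        have hz₀A := hPA hz₀
        have hmul := hdmul v hv z₁ hz₁.1 z₀ hz₀A
        rw [hQ.comm (hdA v hv z₁ hz₁.1) (hdA v hv z₀ hz₀A)] at hmul
        rw [← hmul] at hmem
        rcases hScases _ hmem with h | h
        · exact h
        · exfalso
          have hq0 := hqd v hv (z₁ * z₀) (mul_mem hz₁.1 hz₀A)
          have hz₁d := hz₁q _ (hdU v hv hv1 hqv (z₁ * z₀) (mul_mem hz₁.1 hz₀A))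
          rw [h, hqc] at hz₁d
          -- compare the two evaluations
          have h1 : q (d v z₁) = 0 := by rw [hqd v hv z₁ hz₁.1]; exact e
          have h2 : q (d v z₀) = 0 := by rw [hqd v hv z₀ hz₀A]; exact hdd
          have h3 : d v (z₁ * z₀) ∈ K := by
            rw [hdmul v hv z₁ hz₁.1 z₀ hz₀A]
            exact mul_mem (show d v z₁ ∈ K from ⟨hdU v hv hv1 hqv z₁ hz₁.1, h1⟩)
              (show d v z₀ ∈ K from ⟨hdU v hv hv1 hqv z₀ hz₀A, h2⟩)
          rw [h] at h3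
          have h4 := h3.2
          rw [hqc] at h4
          exact one_ne_zero h4
      · exact e
    have h := hs v₃ hv₃ hv₃1 hqv₃
    rw [hd₃ z₁ hz₁.1, hQ.add_right hz₁.1 (hdA v₁ hv₁ z₁ hz₁.1) (hdA v₂ hv₂ z₁ hz₁.1),
      hs v₁ hv₁ hv₁1 hqv₁, hs v₂ hv₂ hv₂1 hqv₂] at h
    exact absurd h (by decide)
  obtain ⟨v, hv, hv1, hqv, z₀, hz₀, hfixx⟩ := hx
  have hxA : z₁ * z₀ ∈ A := mul_mem hz₁.1 (hPA hz₀)
  have hxN := hfixA v hv hv1 hqv _ hxA hfixx
  obtain ⟨p, hp, w, hw, hpU, hwU, hpwU, hcase⟩ := hplane' z₀ hz₀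
  have hall : ∀ v ∈ U', v ≠ 1 → q v = 0 → pol q p (d v w) = 1 := by
    intro v hv hv1 hqv
    refine (hplane v hv hv1 hqv z₀ hz₀ p hp w hw hpU hwU hpwU hcase (hrelOf v hv z₀ hz₀ ?_)).1
    rw [hQ.comm (hdA v hv z₀ (hPA hz₀)) (hdA v hv z₁ hz₁.1), ← hdmul v hv z₁ hz₁.1 z₀ (hPA hz₀)]
    rcases hcomm v hv _ hxA hxN with e | e <;> rw [e]
    · exact S.one_mem
    · exact hcmS
  have h := hall v₃ hv₃ hv₃1 hqv₃
  rw [hd₃ w (hPA hw), hQ.add_right (hPA hp) (hdA v₁ hv₁ w (hPA hw)) (hdA v₂ hv₂ w (hPA hw)),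
    hall v₁ hv₁ hv₁1 hqv₁, hall v₂ hv₂ hv₂1 hqv₂] at h
  exact absurd h (by decide)

/-- The centraliser of a non-singular element normalises `A`. -/
theorem centralizer_le [Finite G] (hbig : 64 ≤ Nat.card A)
    (hsz : 256 ≤ Nat.card A ∨ Nat.card A = 64)
    {c : G} (hc : c ∈ A) (hqc : q c = 1) {L : Subgroup G} (hL : Half A q c L) :
    centralizer {c} ≤ normalizer (A : Set G) := by
  classical
  have hQ := hF.quad
  have h01 : ∀ a : ZMod 2, a = 0 ∨ a = 1 := by decide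
  have hc1 := hQ.ne_one hqc
  have hcL : c ∈ L := hL.mem c hc (hQ.pol_self hc)
  have hLc : ∀ g ∈ L, g * c * g⁻¹ = c := fun g hg =>
    mul_inv_eq_of_eq_mul (mem_centralizer_singleton_iff.mp (hL.le hg))
  let S := hQ.adj ⊥ bot_le c hc
  have hS : S ≤ A := hQ.adj_le bot_le hc
  have hcS : Nat.card S ≤ 2 := (hQ.card_adj bot_le hc).trans (by simp)
  have hcmS : c ∈ S := hQ.mem_adj bot_le hc
  have hnS : ∀ {a}, a ≠ 1 → a ≠ c → a ∉ S := by
    intro a h1 hac h
    rcases h with h | h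
    · exact h1 (Subgroup.mem_bot.mp h)
    · rw [Subgroup.mem_bot] at h
      exact hac (by rw [eq_inv_of_mul_eq_one_right h, hQ.inv_self hc])
  have hperpS : ∀ {x}, x ∈ hQ.perp S hS ↔ x ∈ A ∧ pol q x c = 0 := by
    intro x
    refine ⟨fun h => ⟨h.1, h.2 c hcmS⟩, fun h => ⟨h.1, fun s hs => ?_⟩⟩
    rcases hs with hs | hs
    · rw [Subgroup.mem_bot.mp hs, hQ.pol_comm h.1 A.one_mem, hQ.pol_one h.1]
    · rw [Subgroup.mem_bot] at hs
      rw [eq_inv_of_mul_eq_one_right hs, hQ.inv_self hc, h.2]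
  have hsmall : ∀ {a} (ha : a ∈ A), Nat.card (hQ.adj S hS a ha) ^ 2 < Nat.card A := by
    intro a ha
    have h1 := hQ.card_adj hS ha
    have := Nat.pow_le_pow_left (show Nat.card (hQ.adj S hS a ha) ≤ 4 by omega) 2
    omega
  have hqac : ∀ a ∈ A, pol q a c = 0 → q (a * c) = q a + 1 := fun a ha h => hQ.q_mul_ns ha hc hqc h
  -- transitivity on singular elements
  have htrans : ∀ a ∈ A, ∀ a' ∈ A, pol q a c = 0 → pol q a' c = 0 → q a = 0 → q a' = 0 → a ≠ 1 →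
      a' ≠ 1 → ∃ n ∈ normalizer (A : Set G), n ∈ L ∧ n * a * n⁻¹ = a' := by
    have hone : ∀ a ∈ A, ∀ a' ∈ A, pol q a c = 0 → pol q a' c = 0 → q a = 0 → q a' = 0 →
        pol q a a' = 1 → ∃ n ∈ normalizer (A : Set G), n ∈ L ∧ n * a * n⁻¹ = a' := by
      intro a ha a' ha' hac ha'c hqa hqa' haa
      obtain ⟨n, hn, hnL, -, hact⟩ := hL.pair (a * a') (mul_mem ha ha')
        (by rw [hQ.add a ha a' ha' c hc, hac, ha'c, add_zero])
        (by rw [hQ.q_mul ha ha', hqa, hqa', haa, zero_add, zero_add])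
      refine ⟨n, hn, hnL, ?_⟩
      rw [hact a ha hac, hQ.add_right ha ha ha', hQ.pol_self ha, haa, zero_add, sel_one,
        hQ.mul_cancel_self ha]
    intro a ha a' ha' hac ha'c hqa hqa' ha1 ha'1
    rcases eq_or_ne a a' with rfl | hne
    · exact ⟨1, one_mem _, one_mem _, by group⟩
    rcases h01 (pol q a a') with haa | haa
    · let T := hQ.adj S hS (a * a') (mul_mem ha ha')
      have hT : T ≤ A := hQ.adj_le hS (mul_mem ha ha')
      have haT : a ∉ T := by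
        rintro (h | h)
        · exact hnS ha1 (fun e => by rw [e, hqc] at hqa; exact one_ne_zero hqa) h
        · refine hnS ha'1 (fun e => by rw [e, hqc] at hqa'; exact one_ne_zero hqa') ?_
          have e : a * a' * a = a' := by
            rw [mul_assoc, hQ.comm ha' ha, hQ.mul_cancel_self ha]
          rwa [e] at h
      obtain ⟨v, hv, hva⟩ := hQ.exists_sep hT ha haT
      have hvc : pol q v c = 0 := hv.2 c (hQ.le_adj hS _ hcmS)
      have hva' : pol q v a' = 1 := by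
        have := hv.2 (a * a') (hQ.mem_adj hS _)
        rw [hQ.add_right hv.1 ha ha', hva] at this
        rcases h01 (pol q v a') with e | e
        · rw [e, add_zero] at this; exact absurd this one_ne_zero
        · exact e
      obtain ⟨v', hv'A, hv'c, hqv', hv'a, hv'a'⟩ : ∃ v' ∈ A, pol q v' c = 0 ∧ q v' = 0 ∧
          pol q v' a = 1 ∧ pol q v' a' = 1 := by
        rcases h01 (q v) with e | e
        · exact ⟨v, hv.1, hvc, e, hva, hva'⟩
        · refine ⟨v * c, mul_mem hv.1 hc, ?_, ?_, ?_, ?_⟩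
          · rw [hQ.add v hv.1 c hc c hc, hvc, hQ.pol_self hc, add_zero]
          · rw [hqac v hv.1 hvc, e]; rfl
          · rw [hQ.add v hv.1 c hc a ha, hva, hQ.pol_comm hc ha, hac, add_zero]
          · rw [hQ.add v hv.1 c hc a' ha', hva', hQ.pol_comm hc ha', ha'c, add_zero]
      obtain ⟨n₁, hn₁, hn₁L, e₁⟩ := hone a ha v' hv'A hac hv'c hqa hqv'
        (by rw [hQ.pol_comm ha hv'A, hv'a])
      obtain ⟨n₂, hn₂, hn₂L, e₂⟩ := hone v' hv'A a' ha' hv'c ha'c hqv' hqa' hv'a'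
      refine ⟨n₂ * n₁, mul_mem hn₂ hn₁, mul_mem hn₂L hn₁L, ?_⟩
      rw [show n₂ * n₁ * a * (n₂ * n₁)⁻¹ = n₂ * (n₁ * a * n₁⁻¹) * n₂⁻¹ by group, e₁, e₂]
    · exact hone a ha a' ha' hac ha'c hqa hqa' haa
  -- central elements
  have hAZ : ∀ a ∈ A, pol q a c = 0 → (∀ h ∈ L, a * h = h * a) → a = 1 ∨ a = c := by
    intro a ha hac hcen
    by_contra! hne
    obtain ⟨v₀, hv₀, hv₀a⟩ := hQ.exists_sep hS ha (hnS hne.1 hne.2)
    obtain ⟨w, hw, hqw, hwa⟩ := hQ.exists_ns hS hv₀ ha (hsmall ha)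
    obtain ⟨n, -, hnL, -, hact⟩ := hL.pair w hw.1 (hw.2 c hcmS) hqw
    have e := hact a ha hac
    rw [← hcen n hnL, mul_inv_cancel_right, hQ.pol_comm ha hw.1, hwa, hv₀a, sel_one] at e
    exact hQ.ne_one hqw (left_eq_mul.mp e)
  obtain ⟨a₁, ha₁, ha₁c, hqa₁, ha₁1⟩ : ∃ a ∈ A, pol q a c = 0 ∧ q a = 0 ∧ a ≠ 1 := by
    obtain ⟨y, hy, y', hy', hyy⟩ := hQ.exists_pair hS (Or.inl (by
      have := Nat.pow_le_pow_left hcS 2
      omega))
    rcases h01 (q y) with e | e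
    · exact ⟨y, hy.1, hy.2 c hcmS, e,
        fun h => by rw [h, hQ.pol_one hy'.1] at hyy; exact zero_ne_one hyy⟩
    · refine ⟨y * c, mul_mem hy.1 hc, ?_, ?_, fun h => ?_⟩
      · rw [hQ.add y hy.1 c hc c hc, hy.2 c hcmS, hQ.pol_self hc, add_zero]
      · rw [hqac y hy.1 (hy.2 c hcmS), e]; rfl
      · rw [eq_inv_of_mul_eq_one_left h, hQ.inv_self hc, hQ.pol_comm hc hy'.1, hy'.2 c hcmS] at hyy
        exact zero_ne_one hyy
  -- involutions of the centre of `L`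
  have hzc : ∀ z ∈ L, z * z = 1 → (∀ h ∈ L, z * h = h * z) → z = 1 ∨ z = c := by
    intro z hzL hz2 hcen
    refine hL.invol z (hF.cent a₁ ha₁ ha₁1 hqa₁ (mem_centralizer_singleton_iff.mpr
      (hcen a₁ (hL.mem a₁ ha₁ ha₁c)))) hzL hz2 hcen fun x hx hxc => ?_
    rw [hcen x (hL.mem x hx hxc), mul_inv_cancel_right]
  have hzN : ∀ z ∈ L, (∀ h ∈ L, z * h = h * z) → z ∈ normalizer (A : Set G) := fun z _ hcen =>
    hF.cent a₁ ha₁ ha₁1 hqa₁ (mem_centralizer_singleton_iff.mpr (hcen a₁ (hL.mem a₁ ha₁ ha₁c)))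
  have hpolN : ∀ g ∈ normalizer (A : Set G), g ∈ L → ∀ x ∈ A, pol q x c = 0 →
      g * x * g⁻¹ ∈ A ∧ pol q (g * x * g⁻¹) c = 0 := fun g hg hgL x hx hxc => by
    refine ⟨(mem_normalizer_iff.mp hg x).mp hx, ?_⟩
    conv_lhs => arg 3; rw [← hLc g hgL]
    rw [hQ.pol_inv hg hx hc, hxc]
  -- the quotient
  let Z : Subgroup L := Subgroup.center L
  let π : L →* L ⧸ Z := QuotientGroup.mk' Z
  let P : Subgroup L := (hQ.perp S hS).subgroupOf L
  let A₁ : Subgroup (L ⧸ Z) := P.map π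
  have hP : ∀ {x : L}, x ∈ P ↔ (x : G) ∈ A ∧ pol q x c = 0 := fun {x} => hperpS
  have hZ : ∀ {z : L}, z ∈ Z ↔ ∀ h ∈ L, (z : G) * h = h * z := by
    intro z
    rw [Subgroup.mem_center_iff]
    exact ⟨fun h k hk => (congrArg Subtype.val (h ⟨k, hk⟩)).symm,
      fun h k => Subtype.ext (h k k.2).symm⟩
  have hPZ : ∀ {x : L}, x ∈ P → x ∈ Z → (x : G) = 1 ∨ (x : G) = c := fun {x} hx hz =>
    hAZ x (hP.mp hx).1 (hP.mp hx).2 (hZ.mp hz)
  have hπ : ∀ {x y : L}, π x = π y ↔ x⁻¹ * y ∈ Z := fun {x y} => QuotientGroup.eq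
  let cL : L := ⟨c, hcL⟩
  have hcZ : cL ∈ Z := hZ.mpr fun h hh => (mem_centralizer_singleton_iff.mp (hL.le hh)).symm
  have hπc : ∀ x : L, π (x * cL) = π x := fun x => by
    rw [map_mul, show π cL = 1 from (QuotientGroup.eq_one_iff cL).mpr hcZ, mul_one]
  -- the pairing descends
  have hwd : ∀ {x y x' y' : L}, x ∈ P → y ∈ P → x' ∈ P → y' ∈ P → π x = π x' → π y = π y' →
      pol q (x : G) y = pol q (x' : G) y' := by
    intro x y x' y' hx hy hx' hy' ex ey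
    have key : ∀ {u u' : L}, u ∈ P → u' ∈ P → π u = π u' →
        ∀ w : G, w ∈ A → pol q w c = 0 → pol q (u : G) w = pol q (u' : G) w := by
      intro u u' hu hu' e w hw hwc
      rcases hPZ (P.mul_mem (P.inv_mem hu) hu') (hπ.mp e) with h | h
      · rw [Subgroup.coe_mul, Subgroup.coe_inv, inv_mul_eq_one] at h; rw [h]
      · rw [Subgroup.coe_mul, Subgroup.coe_inv, inv_mul_eq_iff_eq_mul] at h
        rw [h, hQ.add u (hP.mp hu).1 c hc w hw, hQ.pol_comm hc hw, hwc, add_zero]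
    rw [key hx hx' ex y (hP.mp hy).1 (hP.mp hy).2, hQ.pol_comm (hP.mp hx').1 (hP.mp hy).1,
      key hy hy' ey x' (hP.mp hx').1 (hP.mp hx').2, hQ.pol_comm (hP.mp hy').1 (hP.mp hx').1]
  let lift : L ⧸ Z → L := fun a => if h : ∃ x ∈ P, π x = a then h.choose else 1
  have hlift : ∀ a ∈ A₁, lift a ∈ P ∧ π (lift a) = a := by
    rintro a ⟨x, hx, rfl⟩
    have h : ∃ y ∈ P, π y = π x := ⟨x, hx, rfl⟩
    simp only [lift, dif_pos h]
    exact h.choose_spec
  let B₁ : L ⧸ Z → L ⧸ Z → ZMod 2 := fun a b => pol q (lift a : G) (lift b)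
  have hB₁ : ∀ {x y : L}, x ∈ P → y ∈ P → B₁ (π x) (π y) = pol q (x : G) y := by
    intro x y hx hy
    obtain ⟨h1, e1⟩ := hlift (π x) ⟨x, hx, rfl⟩
    obtain ⟨h2, e2⟩ := hlift (π y) ⟨y, hy, rfl⟩
    exact hwd h1 h2 hx hy e1 e2
  -- the normaliser of the image
  have hN₁ : ∀ {g : L}, π g ∈ normalizer (A₁ : Set (L ⧸ Z)) → (g : G) ∈ normalizer (A : Set G) := by
    intro g hg
    let x₁ : L := ⟨a₁, hL.mem a₁ ha₁ ha₁c⟩
    obtain ⟨y, hy, hy'⟩ := (mem_normalizer_iff.mp hg (π x₁)).mp ⟨x₁, hP.mpr ⟨ha₁, ha₁c⟩, rfl⟩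
    rw [← map_inv, ← map_mul, ← map_mul, hπ] at hy'
    set z : L := y⁻¹ * (g * x₁ * g⁻¹) with hz
    have hcen := hZ.mp hy'
    have hz2 : (z : G) * z = 1 := by
      have hy2 : (y : G) * y = 1 := hQ.sq _ (hP.mp hy).1
      have e : (y : G) * z * (y * z) = 1 := by
        rw [hz]; push_cast
        rw [mul_inv_cancel_left, conj_mul]
        show (g : G) * (a₁ * a₁) * (g : G)⁻¹ = 1
        rw [hQ.sq a₁ ha₁]; group
      have h2 : (y : G) * z * (y * z) = y * y * (z * z) := by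
        calc (y : G) * z * (y * z) = y * (z * y) * z := by group
          _ = y * (y * z) * z := by rw [hcen y y.2]
          _ = _ := by group
      rwa [h2, hy2, one_mul] at e
    have hgA : (g : G) * a₁ * (g : G)⁻¹ ∈ A ∧ pol q ((g : G) * a₁ * (g : G)⁻¹) c = 0 := by
      have e : (g : G) * a₁ * (g : G)⁻¹ = y * z := by
        rw [hz]; push_cast
        show _ = (y : G) * ((y : G)⁻¹ * ((g : G) * a₁ * (g : G)⁻¹))
        group
      rw [e]
      rcases hzc z z.2 hz2 hcen with h | h <;> rw [h]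
      · rw [mul_one]; exact hP.mp hy
      · exact ⟨mul_mem (hP.mp hy).1 hc, by
          rw [hQ.add _ (hP.mp hy).1 c hc c hc, (hP.mp hy).2, hQ.pol_self hc, add_zero]⟩
    obtain ⟨n, hn, -, hna⟩ := htrans a₁ ha₁ _ hgA.1 ha₁c hgA.2 hqa₁
      (by rw [hF.fus _ a₁ ha₁ hgA.1, hqa₁]) ha₁1
      (fun e => ha₁1 (by simpa [mul_inv_eq_one] using e))
    have hmem : n⁻¹ * (g : G) ∈ normalizer (A : Set G) := by
      refine hF.cent a₁ ha₁ ha₁1 hqa₁ (mem_centralizer_singleton_iff.mpr ?_)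
      calc n⁻¹ * (g : G) * a₁ = n⁻¹ * ((g : G) * a₁ * (g : G)⁻¹) * g := by group
        _ = n⁻¹ * (n * a₁ * n⁻¹) * g := by rw [hna]
        _ = a₁ * (n⁻¹ * g) := by group
    have := mul_mem hn hmem
    rwa [mul_inv_cancel_left] at this
  have hN₁' : ∀ {g : L}, (g : G) ∈ normalizer (A : Set G) → π g ∈ normalizer (A₁ : Set (L ⧸ Z)) := by
    intro g hg
    refine Subgroup.mem_normalizer_fintype fun a ha => ?_
    obtain ⟨x, hx, rfl⟩ := ha
    refine ⟨g * x * g⁻¹, hP.mpr ?_, by rw [map_mul, map_mul, map_inv]⟩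
    push_cast
    exact hpolN g hg g.2 x (hP.mp hx).1 (hP.mp hx).2
  have hA₁1 : ∀ {x : L}, x ∈ P → π x ≠ 1 → (x : G) ≠ 1 ∧ (x : G) ≠ c := by
    intro x _ h1
    refine ⟨fun e => h1 ?_, fun e => h1 ?_⟩
    · rw [show x = 1 from Subtype.ext e, map_one]
    · rw [show x = cL from Subtype.ext e]; exact (QuotientGroup.eq_one_iff cL).mpr hcZ
  -- singular and non-singular representatives
  have hrep : ∀ e : ZMod 2, ∀ {x : L}, x ∈ P → π x ≠ 1 →
      ∃ y ∈ P, π y = π x ∧ q (y : G) = e ∧ (y : G) ≠ 1 := by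
    intro e x hx h1
    have hxne := hA₁1 hx h1
    rcases eq_or_ne (q (x : G)) e with he | he
    · exact ⟨x, hx, rfl, he, hxne.1⟩
    · refine ⟨x * cL, ?_, hπc x, ?_, fun h => hxne.2 ?_⟩
      · refine hP.mpr ⟨mul_mem (hP.mp hx).1 hc, ?_⟩
        show pol q ((x : G) * c) c = 0
        rw [hQ.add _ (hP.mp hx).1 c hc c hc, (hP.mp hx).2, hQ.pol_self hc, add_zero]
      · show q ((x : G) * c) = e
        rw [hqac _ (hP.mp hx).1 (hP.mp hx).2]
        have : ∀ a b : ZMod 2, a ≠ b → a + 1 = b := by decide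
        exact this _ _ he
      · have h' : (x : G) * c = 1 := h
        rw [eq_inv_of_mul_eq_one_left h', hQ.inv_self hc]
  have hB : Alt A₁ B₁ :=
    { sq := by
        rintro _ ⟨x, hx, rfl⟩
        rw [← map_mul, show x * x = 1 from Subtype.ext (hQ.sq _ (hP.mp hx).1), map_one]
      add := by
        rintro _ ⟨x, hx, rfl⟩ _ ⟨y, hy, rfl⟩ _ ⟨z, hz, rfl⟩
        rw [← map_mul, hB₁ (mul_mem hx hy) hz, hB₁ hx hz, hB₁ hy hz]
        push_cast
        exact hQ.add _ (hP.mp hx).1 _ (hP.mp hy).1 _ (hP.mp hz).1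
      symm := by
        rintro _ ⟨x, hx, rfl⟩ _ ⟨y, hy, rfl⟩
        rw [hB₁ hx hy, hB₁ hy hx, hQ.pol_comm (hP.mp hx).1 (hP.mp hy).1]
      self := by
        rintro _ ⟨x, hx, rfl⟩
        rw [hB₁ hx hx, hQ.pol_self (hP.mp hx).1]
      nondeg := by
        rintro _ ⟨x, hx, rfl⟩ h1
        obtain ⟨v, hv, hv1⟩ := hQ.exists_sep hS (hP.mp hx).1 (hnS (hA₁1 hx h1).1 (hA₁1 hx h1).2)
        have hvP : (⟨v, hL.mem v hv.1 (hv.2 c hcmS)⟩ : L) ∈ P := hP.mpr ⟨hv.1, hv.2 c hcmS⟩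
        refine ⟨_, ⟨_, hvP, rfl⟩, ?_⟩
        rw [hB₁ hx hvP, hQ.pol_comm (hP.mp hx).1 hv.1, hv1]
        exact one_ne_zero
      inv := by
        intro h hh a ha b hb
        obtain ⟨g, rfl⟩ := QuotientGroup.mk'_surjective Z h
        obtain ⟨x, hx, rfl⟩ := ha
        obtain ⟨y, hy, rfl⟩ := hb
        have hgN := hN₁ hh
        have hx' : g * x * g⁻¹ ∈ P := hP.mpr (hpolN g hgN g.2 x (hP.mp hx).1 (hP.mp hx).2)
        have hy' : g * y * g⁻¹ ∈ P := hP.mpr (hpolN g hgN g.2 y (hP.mp hy).1 (hP.mp hy).2)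
        rw [← map_inv, ← map_mul, ← map_mul, ← map_mul, ← map_mul, hB₁ hx' hy', hB₁ hx hy]
        push_cast
        exact hQ.pol_inv hgN (hP.mp hx).1 (hP.mp hy).1 }
  have hC₁ : ∀ a ∈ A₁, a ≠ 1 → centralizer {a} ≤ normalizer (A₁ : Set (L ⧸ Z)) := by
    rintro _ ⟨x, hx, rfl⟩ h1 h hh
    obtain ⟨g, rfl⟩ := QuotientGroup.mk'_surjective Z h
    obtain ⟨y, hy, hyx, hqy, hy1⟩ := hrep 0 hx h1
    have e := mem_centralizer_singleton_iff.mp hh
    rw [← hyx, ← map_mul, ← map_mul, hπ] at e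
    set z : L := (g * y)⁻¹ * (y * g) with hz
    have hcen := hZ.mp e
    have hya := (hP.mp hy).1
    -- a central element relating `y` to its conjugate
    have e1 : (g : G) * y * (g : G)⁻¹ = y * (z : G)⁻¹ := by
      have hzg : (y : G) * g = g * y * z := by rw [hz]; push_cast; group
      have hzg2 : (y : G) * g = z * (g * y) := by rw [hzg, hcen _ (mul_mem g.2 y.2)]
      calc (g : G) * y * (g : G)⁻¹ = (z : G)⁻¹ * (z * (g * y)) * (g : G)⁻¹ := by group
        _ = (z : G)⁻¹ * y := by rw [← hzg2]; group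
        _ = y * (z : G)⁻¹ := ((show Commute (z : G) y from hcen y y.2).inv_left).eq
    have hz2 : ((z : G)⁻¹) * (z : G)⁻¹ = 1 := by
      have h2 : (g : G) * y * (g : G)⁻¹ * ((g : G) * y * (g : G)⁻¹) = 1 := by
        rw [conj_mul, hQ.sq _ hya]; group
      rw [e1] at h2
      rwa [((show Commute (z : G) y from hcen y y.2).inv_left).eq.symm, mul_assoc,
        ← mul_assoc (y : G), ((show Commute (z : G) y from hcen y y.2).inv_left).eq.symm, mul_assoc,
        hQ.sq _ hya, mul_one] at h2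
    rcases hzc _ (inv_mem z.2) hz2 (fun k hk => ((show Commute (z : G) k from hcen k hk).inv_left).eq)
      with h' | h'
    · rw [h', mul_one] at e1
      exact hN₁' (hF.cent y hya hy1 hqy (mem_centralizer_singleton_iff.mpr (mul_inv_eq_iff_eq_mul.mp e1)))
    · rw [h'] at e1
      have e2 := hF.fus _ (y : G) hya (e1 ▸ mul_mem hya hc)
      rw [e1, hqac _ hya (hP.mp hy).2, hqy, zero_add] at e2
      exact absurd e2 one_ne_zero
  have hself₁ : normalizer (A₁ : Set (L ⧸ Z)) ⊓ centralizer A₁ ≤ A₁ := by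
    intro h hh
    obtain ⟨g, rfl⟩ := QuotientGroup.mk'_surjective Z h
    have hgN := hN₁ hh.1
    obtain ⟨a, ha, hac, hcen⟩ := hL.centre g hgN g.2 fun x hx hxc => by
      let xL : L := ⟨x, hL.mem x hx hxc⟩
      have hxP : xL ∈ P := hP.mpr ⟨hx, hxc⟩
      have e : π xL * π g = π g * π xL := hh.2 (π xL) ⟨xL, hxP, rfl⟩
      have e' : π (g * xL * g⁻¹) = π xL := by rw [map_mul, map_mul, map_inv, ← e, mul_inv_cancel_right]
      have hconjP : g * xL * g⁻¹ ∈ P := hP.mpr (hpolN g hgN g.2 x hx hxc)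
      rcases hPZ (P.mul_mem (P.inv_mem hconjP) hxP) (hπ.mp e') with h' | h'
      · push_cast at h'; exact inv_mul_eq_one.mp h'
      · push_cast at h'
        rw [inv_mul_eq_iff_eq_mul] at h'
        change x = _ at h'
        obtain ⟨hA', hp'⟩ := hpolN g hgN g.2 x hx hxc
        have hqq : q x = q ((g : G) * x * (g : G)⁻¹) + 1 := by
          conv_lhs => rw [h', hqac _ hA' hp']
        rw [hQ.inv _ hgN x hx] at hqq
        exact absurd hqq (by revert hqq; generalize q x = v; revert v; decide)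
    let aL : L := ⟨a, hL.mem a ha hac⟩
    have haP : aL ∈ P := hP.mpr ⟨ha, hac⟩
    refine ⟨aL, haP, ?_⟩
    rw [hπ]
    have : aL⁻¹ = aL := Subtype.ext (hQ.inv_self ha)
    rw [this]
    exact hZ.mpr hcen
  have htr₁ : HasTransv A₁ B₁ := by
    rintro _ ⟨x, hx, rfl⟩
    by_cases h1 : π x = 1
    · refine ⟨1, one_mem _, fun y _ => ?_⟩
      rw [h1, show sel (B₁ y 1) (1 : L ⧸ Z) = 1 by unfold sel; split_ifs <;> rfl]
      group
    obtain ⟨w, hw, hwx, hqw, -⟩ := hrep 1 hx h1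
    obtain ⟨n, hn, hnL, -, hact⟩ := hL.pair w (hP.mp hw).1 (hP.mp hw).2 hqw
    refine ⟨π ⟨n, hnL⟩, hN₁' hn, ?_⟩
    rintro _ ⟨y, hy, rfl⟩
    rw [← hwx, hB₁ hy hw, ← map_inv, ← map_mul, ← map_mul]
    have e := hact y (hP.mp hy).1 (hP.mp hy).2
    rcases h01 (pol q (y : G) w) with h | h <;> rw [h] at e ⊢
    · rw [sel_zero, mul_one] at e ⊢
      exact congrArg π (Subtype.ext (by push_cast; exact e))
    · rw [sel_one] at e ⊢
      rw [← map_mul]
      exact congrArg π (Subtype.ext (by push_cast; exact e))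
  have hcard₁ : Nat.card A ≤ 4 * Nat.card A₁ := by
    have h1 := hQ.card_perp hS
    have hker : Nat.card (π.subgroupMap P).ker ≤ 2 := by
      let f : (π.subgroupMap P).ker → ({1, c} : Set G) := fun x => ⟨((x : P) : L), by
        have hz : π ((x : P) : L) = 1 := congrArg Subtype.val x.2
        exact (hPZ (x : P).2 ((QuotientGroup.eq_one_iff _).mp hz)).imp id id⟩
      refine le_trans (Nat.card_le_card_of_injective f fun x y e =>
        Subtype.ext (Subtype.ext (Subtype.ext (show (f x : G) = f y by rw [e])))) ?_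
      rw [Nat.card_coe_set_eq]
      exact (Set.ncard_insert_le _ _).trans (by rw [Set.ncard_singleton])
    have h2 := (π.subgroupMap P).ker.card_mul_index
    rw [index_ker, MonoidHom.range_eq_top_of_surjective _ (π.subgroupMap_surjective P),
      Subgroup.card_top] at h2
    have h3 : Nat.card P = Nat.card (hQ.perp S hS) :=
      Nat.card_congr (Subgroup.subgroupOfEquivOfLe
        (show hQ.perp S hS ≤ L from fun x hx => hL.mem x (hperpS.mp hx).1 (hperpS.mp hx).2)).toEquiv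
    have h4 := Nat.mul_le_mul_right (Nat.card (P.map π)) hker
    rw [h2, h3] at h4
    have h5 := Nat.mul_le_mul hcS h4
    show Nat.card A ≤ 4 * Nat.card (P.map π)
    rw [← h1]
    omega
  -- the transvection of order two
  obtain ⟨a₂, ha₂, ha₂c, w, hw, hwc, hqw, haw⟩ : ∃ a ∈ A, pol q a c = 0 ∧ ∃ w ∈ A,
      pol q w c = 0 ∧ q w = 1 ∧ pol q a w = 1 := by
    obtain ⟨v₀, hv₀, hv₀a⟩ := hQ.exists_sep hS ha₁
      (hnS ha₁1 fun e => by rw [e, hqc] at hqa₁; exact one_ne_zero hqa₁)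
    obtain ⟨w, hw, hqw, hwa⟩ := hQ.exists_ns hS hv₀ ha₁ (hsmall ha₁)
    exact ⟨a₁, ha₁, ha₁c, w, hw.1, hw.2 c hcmS, hqw, by rw [hQ.pol_comm ha₁ hw.1, hwa, hv₀a]⟩
  obtain ⟨n, hn, hnL, hnn, hact⟩ := hL.pair w hw hwc hqw
  let t : L := ⟨n, hnL⟩ * ⟨a₂, hL.mem a₂ ha₂ ha₂c⟩
  have ht2 : π t * π t = 1 := by
    rw [← map_mul]
    refine (QuotientGroup.eq_one_iff (t * t)).mpr ?_
    have e : t * t = cL := Subtype.ext (by
      show n * a₂ * (n * a₂) = c
      rw [show n * a₂ * (n * a₂) = n * a₂ * n⁻¹ * (n * n) * a₂ by group, hnn, hact a₂ ha₂ ha₂c, haw,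
        sel_one, mul_assoc a₂, hQ.mul_cancel_self hw, hQ.comm ha₂ hc, mul_assoc, hQ.sq a₂ ha₂, mul_one])
    rw [e]; exact hcZ
  let wL : L := ⟨w, hL.mem w hw hwc⟩
  have hwP : wL ∈ P := hP.mpr ⟨hw, hwc⟩
  have hw1 : π wL ≠ 1 := fun e => by
    rcases hPZ hwP ((QuotientGroup.eq_one_iff wL).mp e) with h | h
    · exact hQ.ne_one hqw h
    · have h' : w = c := h
      rw [h', hQ.pol_comm ha₂ hc, hQ.pol_comm hc ha₂, ha₂c] at haw; exact zero_ne_one haw
  have htact : ∀ y ∈ A₁, π t * y * (π t)⁻¹ = y * sel (B₁ y (π wL)) (π wL) := by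
    rintro _ ⟨y, hy, rfl⟩
    rw [hB₁ hy hwP, ← map_inv, ← map_mul, ← map_mul]
    have e : n * a₂ * (y : G) * (n * a₂)⁻¹ = y * sel (pol q (y : G) w) w := by
      rw [show n * a₂ * (y : G) * (n * a₂)⁻¹ = n * (a₂ * y * a₂⁻¹) * n⁻¹ by group,
        hQ.comm ha₂ (hP.mp hy).1, mul_inv_cancel_right, hact y (hP.mp hy).1 (hP.mp hy).2]
    show π (t * y * t⁻¹) = π y * sel (pol q (y : G) w) (π wL)
    rcases h01 (pol q (y : G) w) with h | h <;> rw [h] at e ⊢
    · rw [sel_zero, mul_one] at e ⊢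
      exact congrArg π (Subtype.ext (by push_cast; exact e))
    · rw [sel_one] at e ⊢
      rw [← map_mul]
      exact congrArg π (Subtype.ext (by push_cast; exact e))
  have htN : π t ∈ normalizer (A₁ : Set (L ⧸ Z)) := hN₁' (mul_mem hn (le_normalizer ha₂))
  have htop : normalizer (A₁ : Set (L ⧸ Z)) = ⊤ := by
    rcases hsz with h256 | h64
    · exact hB.eq_top (by omega) hC₁ hself₁ htr₁ htN ht2 ⟨wL, hwP, rfl⟩ hw1 htact
    refine hB.eq_top_of_closed (by omega) hC₁ hself₁ htr₁ ?_ htN ht2 ⟨wL, hwP, rfl⟩ hw1 htact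
    rintro g' _ ⟨x, hx, rfl⟩ hgx
    obtain ⟨g, rfl⟩ := QuotientGroup.mk'_surjective Z g'
    by_cases h1 : π x = 1
    · rw [h1]; group; exact one_mem _
    obtain ⟨y, hy, hyx, hqy, hy1⟩ := hrep 0 hx h1
    rw [← hyx] at hgx ⊢
    rw [← map_inv, ← map_mul, ← map_mul] at hgx ⊢
    have hN := hN₁ hgx
    push_cast at hN
    by_contra hnot
    refine hF.exceptional h64 hc hqc hL ?_ g.2 (hP.mp hy).1 (hP.mp hy).2 hqy hy1 hN fun hA' => hnot ?_
    · intro k hk v hv hvc hv1 hvc' hkA hkc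
      have hkL : π ⟨k, hk⟩ ∈ normalizer (A₁ : Set (L ⧸ Z)) := by
        have hvP : (⟨v, hL.mem v hv hvc⟩ : L) ∈ P := hP.mpr ⟨hv, hvc⟩
        refine hB.ti (by omega) hC₁ hself₁ htr₁ _ _ ⟨_, hvP, rfl⟩ (fun e => ?_)
          ⟨⟨k * v * k⁻¹, hL.mem _ hkA hkc⟩, hP.mpr ⟨hkA, hkc⟩, by
            rw [← map_inv, ← map_mul, ← map_mul]; exact congrArg π (Subtype.ext rfl)⟩
        rcases hPZ hvP ((QuotientGroup.eq_one_iff _).mp e) with h | h
        · exact hv1 h
        · exact hvc' h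
      exact hN₁ hkL
    · refine ⟨g * y * g⁻¹, hP.mpr ?_, rfl⟩
      push_cast
      refine ⟨hA', ?_⟩
      rcases h01 (pol q ((g : G) * y * (g : G)⁻¹) c) with h | h
      · exact h
      · exact absurd (mul_mem (mul_mem g.2 y.2) (inv_mem g.2)) (hL.not_mem _ hA' h)
  intro g hg
  obtain ⟨x₀, hx₀, hx₀c⟩ : ∃ x ∈ A, pol q x c = 1 := by
    obtain ⟨x, hx, hne⟩ := hQ.nondeg c hc hc1
    exact ⟨x, hx, by rw [hQ.pol_comm hx hc]; rcases h01 (pol q c x) with e | e
                     · exact absurd e hne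
                     · exact e⟩
  by_cases hgL : g ∈ L
  · exact hN₁ (show π ⟨g, hgL⟩ ∈ _ by rw [htop]; trivial)
  · have h := hL.index g hg hgL x₀ hx₀ hx₀c
    have h' : g * x₀ ∈ normalizer (A : Set G) := hN₁ (show π ⟨g * x₀, h⟩ ∈ _ by rw [htop]; trivial)
    have := mul_mem h' (inv_mem (le_normalizer hx₀))
    rwa [mul_inv_cancel_right] at this


/-- The fusion theorem with hypotheses on the singular elements. -/
theorem normalizer_eq_top [Finite G] (hsz : 256 ≤ Nat.card A ∨ Nat.card A = 64)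
    (hm : Nat.card A = 64 → NoSingularEight A q)
    (hhalf : ∀ c ∈ A, q c = 1 → ∃ L, Half A q c L)
    {a c : G} (ha : a ∈ A) (ha1 : a ≠ 1) (hqa : q a = 0) (hc : c ∈ A) (hqc : q c = 1) :
    normalizer (A : Set G) = ⊤ := by
  have hbig : 64 ≤ Nat.card A := by omega
  have hQ := hF.quad
  have hC : ∀ x ∈ A, x ≠ 1 → centralizer {x} ≤ normalizer (A : Set G) := by
    intro x hx hx1
    have h01 : ∀ b : ZMod 2, b = 0 ∨ b = 1 := by decide
    rcases h01 (q x) with e | e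
    · exact hF.cent x hx hx1 e
    · obtain ⟨L, hL⟩ := hhalf x hx e
      exact hF.centralizer_le hbig hsz hx e hL
  have hirr : SingIrred A q := by
    rcases hsz with h | h
    · exact hQ.singIrred h hF.pairs
    · exact hQ.singIrred_three hbig (hm h) hF.pairs
  exact hQ.eq_top (by omega) hC (hQ.ti (by omega) hC hF.self hirr (hQ.nsMove_small hbig hF.pairs))
    hF.self ha ha1 hqa hc hqc

end Fus

end Cfsg.Agent.Lib.SympFusion78
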