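import Mathlib

/-!
The fusion step for normalisers of groups of symplectic type: an elementary abelian 2-subgroup `A`
carrying an invariant non-degenerate quadratic form, containing the centralisers of all its
non-trivial elements in its normaliser, is normal.
-/

set_option autoImplicit false

namespace Cfsg.Agent.Lib.SympFusion78

open Subgroup

variable {G : Type*} [Group G]

/-- The polar form of a function. -/
def pol (q : G → ZMod 2) (a c : G) : ZMod 2 := q (a * c) + q a + q c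

/-- The hypotheses. -/
structure Quad (A : Subgroup G) (q : G → ZMod 2) : Prop where
  sq : ∀ a ∈ A, a * a = 1
  add : ∀ a ∈ A, ∀ a' ∈ A, ∀ c ∈ A, pol q (a * a') c = pol q a c + pol q a' c
  nondeg : ∀ a ∈ A, a ≠ 1 → ∃ c ∈ A, pol q a c ≠ 0
  inv : ∀ h ∈ normalizer (A : Set G), ∀ a ∈ A, q (h * a * h⁻¹) = q a

namespace Quad

variable {A : Subgroup G} {q : G → ZMod 2} (hQ : Quad A q)
include hQ

theorem comm {a c : G} (ha : a ∈ A) (hc : c ∈ A) : a * c = c * a := by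
  have h := hQ.sq _ (mul_mem ha hc)
  have ha' : a⁻¹ = a := inv_eq_of_mul_eq_one_right (hQ.sq a ha)
  have hc' : c⁻¹ = c := inv_eq_of_mul_eq_one_right (hQ.sq c hc)
  rw [eq_inv_of_mul_eq_one_left h, mul_inv_rev, ha', hc']

theorem pol_comm {a c : G} (ha : a ∈ A) (hc : c ∈ A) : pol q a c = pol q c a := by
  unfold pol; rw [hQ.comm ha hc]; abel

theorem pol_one {c : G} (hc : c ∈ A) : pol q 1 c = 0 := by
  have h := hQ.add 1 A.one_mem 1 A.one_mem c hc
  rw [one_mul] at h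
  exact left_eq_add.mp h

theorem add_right {a c c' : G} (ha : a ∈ A) (hc : c ∈ A) (hc' : c' ∈ A) :
    pol q a (c * c') = pol q a c + pol q a c' := by
  rw [hQ.pol_comm ha (mul_mem hc hc'), hQ.add c hc c' hc' a ha, hQ.pol_comm hc ha, hQ.pol_comm hc' ha]

theorem q_one : q 1 = 0 := by
  have h := hQ.pol_one A.one_mem
  unfold pol at h
  rw [one_mul, CharTwo.add_self_eq_zero, zero_add] at h
  exact h

theorem q_mul {a c : G} (_ha : a ∈ A) (_hc : c ∈ A) : q (a * c) = q a + q c + pol q a c := by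
  unfold pol
  have : ∀ x y z : ZMod 2, x = y + z + (x + y + z) := by decide
  exact this _ _ _

theorem pol_inv {h a c : G} (hh : h ∈ normalizer (A : Set G)) (ha : a ∈ A) (hc : c ∈ A) :
    pol q (h * a * h⁻¹) (h * c * h⁻¹) = pol q a c := by
  unfold pol
  rw [show h * a * h⁻¹ * (h * c * h⁻¹) = h * (a * c) * h⁻¹ by group, hQ.inv h hh _ (mul_mem ha hc),
    hQ.inv h hh a ha, hQ.inv h hh c hc]

/-- The orthogonal of a subgroup, inside `A`. -/
def perp (_hQ : Quad A q) (S : Subgroup G) (hS : S ≤ A) : Subgroup G where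
  carrier := {a | a ∈ A ∧ ∀ s ∈ S, pol q a s = 0}
  one_mem' := ⟨A.one_mem, fun _ hs => _hQ.pol_one (hS hs)⟩
  mul_mem' {a b} ha hb := ⟨mul_mem ha.1 hb.1, fun s hs => by
    rw [_hQ.add a ha.1 b hb.1 s (hS hs), ha.2 s hs, hb.2 s hs, add_zero]⟩
  inv_mem' {a} ha := by
    show a⁻¹ ∈ A ∧ _
    rw [inv_eq_of_mul_eq_one_right (_hQ.sq a ha.1)]
    exact ha

theorem mem_perp {S : Subgroup G} (hS : S ≤ A) {a : G} :
    a ∈ hQ.perp S hS ↔ a ∈ A ∧ ∀ s ∈ S, pol q a s = 0 := Iff.rfl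

theorem perp_le {S : Subgroup G} (hS : S ≤ A) : hQ.perp S hS ≤ A := fun _ h => h.1

theorem card_perp [Finite G] {S : Subgroup G} (hS : S ≤ A) :
    Nat.card S * Nat.card (hQ.perp S hS) = Nat.card A := by
  classical
  have := Fintype.ofFinite G
  let sg : ZMod 2 → ℤ := fun x => if x = 0 then 1 else -1
  have hsg : ∀ x y : ZMod 2, sg (x + y) = sg x * sg y := by decide
  -- a character sum vanishes unless the character is trivial
  have hsum : ∀ (T : Subgroup G) (f : G → ZMod 2), (∀ t ∈ T, ∀ t' ∈ T, f (t * t') = f t + f t') →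
      ∑ t : T, sg (f t) = if ∀ t ∈ T, f t = 0 then (Nat.card T : ℤ) else 0 := by
    intro T f hf
    split_ifs with h
    · rw [Finset.sum_congr rfl (g := fun _ => (1 : ℤ)) fun t _ => by simp [sg, h t t.2]]
      simp [Nat.card_eq_fintype_card]
    · push Not at h
      obtain ⟨t₀, ht₀, hne⟩ := h
      have h1 : sg (f t₀) = -1 := if_neg hne
      have h2 : ∑ t : T, sg (f (⟨t₀, ht₀⟩ * t : T)) = ∑ t : T, sg (f t) :=
        Equiv.sum_comp (Equiv.mulLeft (⟨t₀, ht₀⟩ : T)) (fun t : T => sg (f t))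
      have h3 : ∀ t : T, sg (f (⟨t₀, ht₀⟩ * t : T)) = -sg (f t) := fun t => by
        rw [Subgroup.coe_mul, hf t₀ ht₀ t t.2, hsg, h1, neg_one_mul]
      rw [Finset.sum_congr rfl fun t _ => h3 t, Finset.sum_neg_distrib] at h2
      linarith
  have hL : ∑ a : A, ∑ s : S, sg (pol q a s) = (Nat.card S * Nat.card (hQ.perp S hS) : ℤ) := by
    rw [Finset.sum_congr rfl fun (a : A) _ =>
      hsum S (fun s => pol q a s) fun s hs s' hs' => hQ.add_right a.2 (hS hs) (hS hs')]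
    rw [Finset.sum_ite, Finset.sum_const_zero, add_zero, Finset.sum_const, nsmul_eq_mul, mul_comm]
    congr 2
    rw [← Fintype.card_subtype, ← Nat.card_eq_fintype_card]
    refine Nat.card_congr ⟨fun a => ⟨a.1.1, a.1.2, a.2⟩, fun a => ⟨⟨a.1, a.2.1⟩, a.2.2⟩,
      fun _ => rfl, fun _ => rfl⟩
  have hR : ∑ s : S, ∑ a : A, sg (pol q a s) = (Nat.card A : ℤ) := by
    rw [Finset.sum_congr rfl fun (s : S) _ =>
      hsum A (fun a => pol q a s) fun a ha a' ha' => hQ.add a ha a' ha' s (hS s.2)]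
    rw [Finset.sum_eq_single (1 : S)]
    · rw [if_pos fun a ha => by
        rw [OneMemClass.coe_one, hQ.pol_comm ha A.one_mem, hQ.pol_one ha]]
    · intro s _ hs
      rw [if_neg]
      intro h
      obtain ⟨c, hc, hne⟩ := hQ.nondeg s (hS s.2) fun e => hs (Subtype.ext e)
      exact hne (by rw [hQ.pol_comm (hS s.2) hc]; exact h c hc)
    · simp
  rw [Finset.sum_comm, hR] at hL
  exact_mod_cast hL.symm

/-- An element of order two normalising `A` fixes at least the square root of its elements. -/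
theorem card_le_sq [Finite G] {y : G} (hy : y ∈ normalizer (A : Set G)) (hy2 : y * y = 1) :
    Nat.card A ≤ Nat.card (A ⊓ centralizer {y} : Subgroup G) ^ 2 := by
  have hA : ∀ x ∈ A, y * x * y⁻¹ ∈ A := fun x hx => (mem_normalizer_iff.mp hy x).mp hx
  let f : A →* G :=
    { toFun := fun x => x * (y * x * y⁻¹)
      map_one' := by simp
      map_mul' := fun a b => by
        show (a : G) * b * (y * (a * b) * y⁻¹) = a * (y * a * y⁻¹) * (b * (y * b * y⁻¹))
        rw [show y * ((a : G) * b) * y⁻¹ = y * a * y⁻¹ * (y * b * y⁻¹) by group,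
          mul_assoc (a : G) b, ← mul_assoc (b : G) (y * a * y⁻¹), hQ.comm b.2 (hA a a.2)]
        group }
  have hker : f.ker.map A.subtype ≤ A ⊓ centralizer {y} := by
    rintro x ⟨⟨x, hx⟩, hx', rfl⟩
    have h : x * (y * x * y⁻¹) = 1 := hx'
    refine ⟨hx, mem_centralizer_singleton_iff.mpr ?_⟩
    have h2 : y * x * y⁻¹ = x := by
      rw [eq_inv_of_mul_eq_one_right h, inv_eq_of_mul_eq_one_right (hQ.sq x hx)]
    show x * y = y * x
    conv_lhs => rw [← h2]
    group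
  have hrange : f.range ≤ A ⊓ centralizer {y} := by
    rintro _ ⟨x, rfl⟩
    refine ⟨mul_mem x.2 (hA x x.2), mem_centralizer_singleton_iff.mpr ?_⟩
    have hyi : y⁻¹ = y := inv_eq_of_mul_eq_one_right hy2
    have h := hQ.comm x.2 (hA x x.2)
    show (x : G) * (y * x * y⁻¹) * y = y * ((x : G) * (y * x * y⁻¹))
    conv_lhs => rw [h]
    rw [hyi]
    simp only [mul_assoc, hy2, mul_one]
  have h1 := f.ker.card_mul_index
  rw [index_ker] at h1
  have hk : Nat.card f.ker ≤ Nat.card (A ⊓ centralizer {y} : Subgroup G) := by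
    refine le_trans (le_of_eq ?_) (Subgroup.card_le_of_le hker)
    exact (Nat.card_congr (Subgroup.equivMapOfInjective _ _ A.subtype_injective).toEquiv)
  rw [← h1, pow_two]
  exact Nat.mul_le_mul hk (Subgroup.card_le_of_le hrange)

/-- No element outside `A` normalising `A` is conjugate into `A`. -/
theorem strongly_closed [Finite G] (hbig : 4 < Nat.card A)
    (hC : ∀ a ∈ A, a ≠ 1 → centralizer {a} ≤ normalizer (A : Set G))
    (hTI : ∀ g a, a ∈ A → a ≠ 1 → g * a * g⁻¹ ∈ A → g ∈ normalizer (A : Set G))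
    (hself : normalizer (A : Set G) ⊓ centralizer A ≤ A)
    (g : G) {a₀ : G} (ha₀ : a₀ ∈ A) (hy : g * a₀ * g⁻¹ ∈ normalizer (A : Set G)) :
    g * a₀ * g⁻¹ ∈ A := by
  rcases eq_or_ne a₀ 1 with rfl | h1
  · simp
  by_contra hyA
  have hg : g ∉ normalizer (A : Set G) := fun h => hyA ((mem_normalizer_iff.mp h a₀).mp ha₀)
  let U : Subgroup G := A ⊓ (normalizer (A : Set G)).comap (MulAut.conj g⁻¹).toMonoidHom
  let U' : Subgroup G := A ⊓ (normalizer (A : Set G)).comap (MulAut.conj g).toMonoidHom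
  have hUA : U ≤ A := inf_le_left
  have hU : ∀ {u}, u ∈ U ↔ u ∈ A ∧ g⁻¹ * u * g ∈ normalizer (A : Set G) := by
    intro u; simp [U]
  have hU' : ∀ {v}, v ∈ U' ↔ v ∈ A ∧ g * v * g⁻¹ ∈ normalizer (A : Set G) := by
    intro v; simp [U']
  -- `U` and the conjugate of `U'` commute
  have hcomm : ∀ u ∈ U, ∀ v ∈ U', u * (g * v * g⁻¹) = g * v * g⁻¹ * u := by
    intro u hu v hv
    obtain ⟨huA, hu'⟩ := hU.mp hu
    obtain ⟨hvA, hv'⟩ := hU'.mp hv
    set Y := g * v * g⁻¹ with hY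
    have hcA : u * Y * u⁻¹ * Y⁻¹ ∈ A := by
      rw [mul_assoc u, mul_assoc u]
      exact mul_mem huA ((mem_normalizer_iff.mp hv' _).mp (inv_mem huA))
    have hcA' : g⁻¹ * (u * Y * u⁻¹ * Y⁻¹) * g ∈ A := by
      rw [hY, show g⁻¹ * (u * (g * v * g⁻¹) * u⁻¹ * (g * v * g⁻¹)⁻¹) * g =
        g⁻¹ * u * g * v * (g⁻¹ * u * g)⁻¹ * v⁻¹ by group]
      exact mul_mem ((mem_normalizer_iff.mp hu' v).mp hvA) (inv_mem hvA)
    by_contra hne
    apply hg
    refine hTI g _ hcA' (fun e => hne ?_) (by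
      rw [show g * (g⁻¹ * (u * Y * u⁻¹ * Y⁻¹) * g) * g⁻¹ = u * Y * u⁻¹ * Y⁻¹ by group]
      exact hcA)
    have e' : u * Y * u⁻¹ * Y⁻¹ = 1 := by
      have := congrArg (fun x => g * x * g⁻¹) e
      simpa [mul_assoc] using this
    rwa [mul_inv_eq_one, mul_inv_eq_iff_eq_mul] at e'
  set y := g * a₀ * g⁻¹ with hydef
  have hy2 : y * y = 1 := by
    rw [hydef, conj_mul, hQ.sq a₀ ha₀]; group
  have hWU : A ⊓ centralizer {y} ≤ U := by
    rintro x ⟨hxA, hx⟩
    refine hU.mpr ⟨hxA, hC a₀ ha₀ h1 (mem_centralizer_singleton_iff.mpr ?_)⟩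
    have e := mem_centralizer_singleton_iff.mp hx
    rw [hydef] at e
    calc g⁻¹ * x * g * a₀ = g⁻¹ * (x * (g * a₀ * g⁻¹)) * g := by group
      _ = g⁻¹ * (g * a₀ * g⁻¹ * x) * g := by rw [e]
      _ = a₀ * (g⁻¹ * x * g) := by group
  have hnA : Nat.card A ≤ Nat.card U ^ 2 :=
    (hQ.card_le_sq hy hy2).trans (Nat.pow_le_pow_left (Subgroup.card_le_of_le hWU) 2)
  obtain ⟨x₀, hx₀, hx₀1⟩ : ∃ x ∈ U, x ≠ 1 := by
    refine (Subgroup.bot_or_exists_ne_one U).resolve_left fun e => ?_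
    rw [e, Subgroup.card_bot] at hnA
    omega
  obtain ⟨hx₀A, hz₀⟩ := hU.mp hx₀
  have hW'U : A ⊓ centralizer {g⁻¹ * x₀ * g} ≤ U' := by
    rintro v ⟨hvA, hv⟩
    refine hU'.mpr ⟨hvA, hC x₀ hx₀A hx₀1 (mem_centralizer_singleton_iff.mpr ?_)⟩
    have e := mem_centralizer_singleton_iff.mp hv
    calc g * v * g⁻¹ * x₀ = g * (v * (g⁻¹ * x₀ * g)) * g⁻¹ := by group
      _ = g * (g⁻¹ * x₀ * g * v) * g⁻¹ := by rw [e]
      _ = x₀ * (g * v * g⁻¹) := by group
  have hnA' : Nat.card A ≤ Nat.card U' ^ 2 := by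
    refine (hQ.card_le_sq hz₀ ?_).trans (Nat.pow_le_pow_left (Subgroup.card_le_of_le hW'U) 2)
    rw [show g⁻¹ * x₀ * g * (g⁻¹ * x₀ * g) = g⁻¹ * (x₀ * x₀) * g by group, hQ.sq x₀ hx₀A]; group
  -- the fixed points of every non-trivial element of the conjugate of `U'` form `U`
  have hfix : ∀ v ∈ U', v ≠ 1 → ∀ x ∈ A, x * (g * v * g⁻¹) = g * v * g⁻¹ * x → x ∈ U := by
    intro v hv hv1 x hx e
    refine hU.mpr ⟨hx, hC v (hU'.mp hv).1 hv1 (mem_centralizer_singleton_iff.mpr ?_)⟩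
    calc g⁻¹ * x * g * v = g⁻¹ * (x * (g * v * g⁻¹)) * g := by group
      _ = g⁻¹ * (g * v * g⁻¹ * x) * g := by rw [e]
      _ = v * (g⁻¹ * x * g) := by group
  -- the shifts of an element outside `U`
  have key : ∀ x ∈ A, x ∉ U → ∀ t ∈ hQ.perp U hUA, t ∈ U ∧ q t = pol q x t ∧
      Nat.card U = Nat.card (hQ.perp U hUA) := by
    intro x hx hxU
    have hm : ∀ v : U', x * (g * v * g⁻¹ * x * (g * v * g⁻¹)⁻¹) ∈ U := by
      intro v
      rcases eq_or_ne (v : G) 1 with e | hv1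
      · rw [e, show x * (g * 1 * g⁻¹ * x * (g * 1 * g⁻¹)⁻¹) = x * x by group, hQ.sq x hx]
        exact U.one_mem
      obtain ⟨hvA, hv'⟩ := hU'.mp v.2
      set Y := g * (v : G) * g⁻¹ with hY
      have hYx := (mem_normalizer_iff.mp hv' x).mp hx
      refine hfix v v.2 hv1 _ (mul_mem hx hYx) ?_
      rw [← hY]
      have hY2 : Y * Y = 1 := by rw [hY, conj_mul, hQ.sq _ hvA]; group
      have hYi : Y⁻¹ = Y := inv_eq_of_mul_eq_one_right hY2
      conv_lhs => rw [hQ.comm hx hYx]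
      rw [hYi]
      simp only [mul_assoc, hY2, mul_one]
    let M : U' →* G :=
      { toFun := fun v => x * (g * v * g⁻¹ * x * (g * v * g⁻¹)⁻¹)
        map_one' := by
          rw [OneMemClass.coe_one, show x * (g * 1 * g⁻¹ * x * (g * 1 * g⁻¹)⁻¹) = x * x by group]
          exact hQ.sq x hx
        map_mul' := fun v w => by
          rw [Subgroup.coe_mul]
          set Y := g * (v : G) * g⁻¹ with hY
          set Y' := g * (w : G) * g⁻¹ with hY'
          rw [show g * ((v : G) * w) * g⁻¹ = Y * Y' by rw [hY, hY', conj_mul]]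
          have hMw : x * (Y' * x * Y'⁻¹) ∈ U := hm w
          have hc : Y * (x * (Y' * x * Y'⁻¹)) * Y⁻¹ = x * (Y' * x * Y'⁻¹) := by
            rw [← hcomm _ hMw v v.2, mul_inv_cancel_right]
          calc x * (Y * Y' * x * (Y * Y')⁻¹)
              = x * (Y * x⁻¹ * Y⁻¹) * (Y * (x * (Y' * x * Y'⁻¹)) * Y⁻¹) := by group
            _ = x * (Y * x * Y⁻¹) * (x * (Y' * x * Y'⁻¹)) := by
              rw [hc, inv_eq_of_mul_eq_one_right (hQ.sq x hx)] }
    have hMperp : M.range ≤ hQ.perp U hUA := by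
      rintro _ ⟨v, rfl⟩
      refine ⟨hUA (hm v), fun u hu => ?_⟩
      obtain ⟨hvA, hv'⟩ := hU'.mp v.2
      show pol q (x * (g * v * g⁻¹ * x * (g * v * g⁻¹)⁻¹)) u = 0
      set Y := g * (v : G) * g⁻¹ with hY
      rw [hQ.add x hx _ ((mem_normalizer_iff.mp hv' x).mp hx) u (hUA hu)]
      have hu2 : Y * u * Y⁻¹ = u := by rw [← hcomm u hu v v.2, mul_inv_cancel_right]
      conv_lhs => arg 2; rw [← hu2, hQ.pol_inv hv' hx (hUA hu)]
      exact CharTwo.add_self_eq_zero _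
    have hinj : Function.Injective M := by
      rw [← MonoidHom.ker_eq_bot_iff, Subgroup.eq_bot_iff_forall]
      intro v hv
      by_contra hv1
      have h : x * (g * v * g⁻¹ * x * (g * (v : G) * g⁻¹)⁻¹) = 1 := hv
      refine hxU (hfix v v.2 (fun e => hv1 (Subtype.ext e)) x hx ?_)
      have h2 : g * v * g⁻¹ * x * (g * (v : G) * g⁻¹)⁻¹ = x := by
        rw [eq_inv_of_mul_eq_one_right h, inv_eq_of_mul_eq_one_right (hQ.sq x hx)]
      exact (mul_inv_eq_iff_eq_mul.mp h2).symm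
    have hcard : Nat.card M.range = Nat.card U' :=
      Nat.card_congr (MonoidHom.ofInjective hinj).symm.toEquiv
    have h3 := hcard ▸ Subgroup.card_le_of_le hMperp
    have h4 := hQ.card_perp hUA
    have h5 : Nat.card U = Nat.card (hQ.perp U hUA) := by
      have hpos : 0 < Nat.card U := Nat.card_pos
      have hpos' : 0 < Nat.card (hQ.perp U hUA) := Nat.card_pos
      have h6 := hnA'.trans (Nat.pow_le_pow_left h3 2)
      rw [← h4, pow_two] at h6
      rw [← h4, pow_two] at hnA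
      exact le_antisymm (Nat.le_of_mul_le_mul_right h6 hpos')
        (Nat.le_of_mul_le_mul_left hnA hpos)
    have heq : M.range = hQ.perp U hUA := by
      refine Subgroup.eq_of_le_of_card_ge hMperp ?_
      rw [hcard]
      have h6 : Nat.card (hQ.perp U hUA) ^ 2 ≤ Nat.card U' ^ 2 := by
        refine le_trans (le_of_eq ?_) hnA'
        rw [← h4, h5, pow_two]
      exact (Nat.pow_le_pow_iff_left two_ne_zero).mp h6
    intro t ht
    rw [← heq] at ht
    obtain ⟨v, rfl⟩ := ht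
    refine ⟨hm v, ?_, h5⟩
    obtain ⟨hvA, hv'⟩ := hU'.mp v.2
    show q (x * (g * v * g⁻¹ * x * (g * (v : G) * g⁻¹)⁻¹)) =
      pol q x (x * (g * v * g⁻¹ * x * (g * (v : G) * g⁻¹)⁻¹))
    set Y := g * (v : G) * g⁻¹
    unfold pol
    rw [← mul_assoc x x, hQ.sq x hx, one_mul, hQ.inv Y hv' x hx, CharTwo.add_self_eq_zero, zero_add]
  -- three cosets
  obtain ⟨x₁, hx₁, hx₁U⟩ : ∃ x ∈ A, x ∉ U := by
    by_contra! h
    obtain ⟨x, hx, hx1⟩ := (Subgroup.bot_or_exists_ne_one U').resolve_left (fun e => by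
      rw [e, Subgroup.card_bot] at hnA'; omega)
    obtain ⟨hxA, hx'⟩ := hU'.mp hx
    refine hg (hTI g x hxA hx1 (hself ⟨hx', fun u hu => hcomm u (h u hu) x hx⟩))
  have h5 : Nat.card U = Nat.card (hQ.perp U hUA) :=
    (key x₁ hx₁ hx₁U 1 (hQ.perp U hUA).one_mem).2.2
  have hperpU : hQ.perp U hUA = U :=
    Subgroup.eq_of_le_of_card_ge (fun t ht => (key x₁ hx₁ hx₁U t ht).1) h5.le
  obtain ⟨x₂, hx₂, hx₂U, hx₁₂⟩ : ∃ x ∈ A, x ∉ U ∧ x₁ * x ∉ U := by
    by_contra! h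
    have hcov : (A : Set G) ⊆ (U : Set G) ∪ (fun u => x₁ * u) '' (U : Set G) := by
      intro x hx
      by_cases hxU : x ∈ U
      · exact Or.inl hxU
      · refine Or.inr ⟨x₁ * x, h x hx hxU, ?_⟩
        show x₁ * (x₁ * x) = x
        rw [← mul_assoc, hQ.sq x₁ hx₁, one_mul]
    have h2 : Nat.card A ≤ Nat.card U + Nat.card U := by
      calc Nat.card A = (A : Set G).ncard := rfl
        _ ≤ ((U : Set G) ∪ (fun u => x₁ * u) '' (U : Set G)).ncard :=
          Set.ncard_le_ncard hcov (Set.toFinite _)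
        _ ≤ (U : Set G).ncard + ((fun u => x₁ * u) '' (U : Set G)).ncard := Set.ncard_union_le _ _
        _ ≤ _ := Nat.add_le_add_left (Set.ncard_image_le (Set.toFinite _)) _
    have h4 := hQ.card_perp hUA
    rw [hperpU] at h4
    nlinarith
  apply hx₁U
  rw [← hperpU]
  refine ⟨hx₁, fun t ht => ?_⟩
  have ht' : t ∈ hQ.perp U hUA := by rw [hperpU]; exact ht
  have e1 := (key x₁ hx₁ hx₁U t ht').2.1
  have e2 := (key x₂ hx₂ hx₂U t ht').2.1
  have e3 := (key (x₁ * x₂) (mul_mem hx₁ hx₂) hx₁₂ t ht').2.1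
  rw [hQ.add x₁ hx₁ x₂ hx₂ t (hUA ht), ← e1, ← e2, CharTwo.add_self_eq_zero] at e3
  rw [← e1, e3]


/-- With a singular and a non-singular element, `A` is normal. -/
theorem eq_top [Finite G] (hbig : 4 < Nat.card A)
    (hC : ∀ a ∈ A, a ≠ 1 → centralizer {a} ≤ normalizer (A : Set G))
    (hTI : ∀ g a, a ∈ A → a ≠ 1 → g * a * g⁻¹ ∈ A → g ∈ normalizer (A : Set G))
    (hself : normalizer (A : Set G) ⊓ centralizer A ≤ A)
    {a c : G} (ha : a ∈ A) (ha1 : a ≠ 1) (hqa : q a = 0) (hc : c ∈ A) (hqc : q c = 1) :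
    normalizer (A : Set G) = ⊤ := by
  rw [eq_top_iff]
  intro g _
  by_contra hg
  have hgi : g⁻¹ ∉ normalizer (A : Set G) := fun h => hg (by simpa using inv_mem h)
  have hc1 : c ≠ 1 := fun e => by rw [e, hQ.q_one] at hqc; exact zero_ne_one hqc
  set c' := g * c * g⁻¹ with hc'def
  have hnc : ∀ x : G, x * a * x⁻¹ ≠ c' := by
    intro x e
    have e' : g⁻¹ * x * a * (g⁻¹ * x)⁻¹ = c := by
      calc g⁻¹ * x * a * (g⁻¹ * x)⁻¹ = g⁻¹ * (x * a * x⁻¹) * g := by group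
        _ = c := by rw [e, hc'def]; group
    have := hQ.inv _ (hTI _ a ha ha1 (e' ▸ hc)) a ha
    rw [e', hqc, hqa] at this
    exact one_ne_zero this
  have ha2 : a * a = 1 := hQ.sq a ha
  have hai : a⁻¹ = a := inv_eq_of_mul_eq_one_right ha2
  have hc'2 : c' * c' = 1 := by rw [hc'def, conj_mul, hQ.sq c hc]; group
  have hc'i : c'⁻¹ = c' := inv_eq_of_mul_eq_one_right hc'2
  set r := a * c' with hr
  have hrc : c' = a * r := by rw [hr, ← mul_assoc, ha2, one_mul]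
  have hflip : ∀ i : ℕ, a * r ^ i * a⁻¹ = (r ^ i)⁻¹ := by
    intro i
    rw [← conj_pow, hr, ← mul_assoc a a c', ha2, one_mul, ← inv_pow, mul_inv_rev, hc'i]
  have hsq : ∀ i : ℕ, (r ^ i)⁻¹ * a * r ^ i = a * r ^ (2 * i) := by
    intro i
    rw [← hflip i, two_mul, pow_add]
    group
  have hpos : 0 < orderOf r := orderOf_pos r
  rcases Nat.even_or_odd (orderOf r) with ⟨m, hm⟩ | ⟨m, hm⟩
  swap
  · refine hnc (r ^ (m + 1))⁻¹ ?_
    rw [inv_inv, hsq, show 2 * (m + 1) = orderOf r + 1 by omega, pow_succ, pow_orderOf_eq_one,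
      one_mul, hrc]
  set j := r ^ m with hj
  have hj1 : j ≠ 1 := pow_ne_one_of_lt_orderOf (by omega) (by omega)
  have hj2 : j * j = 1 := by rw [hj, ← pow_add, ← hm, pow_orderOf_eq_one]
  have hji : j⁻¹ = j := inv_eq_of_mul_eq_one_right hj2
  have haj : a * j = j * a := by
    have h := hflip m
    rw [← hj, hji, mul_inv_eq_iff_eq_mul] at h
    exact h
  have hrj : r * j = j * r := by rw [hj, ← pow_succ', ← pow_succ]
  have hc'j : c' * j = j * c' := by
    rw [hrc, mul_assoc, hrj, ← mul_assoc, haj, mul_assoc]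
  rcases Nat.even_or_odd m with ⟨l, hl⟩ | ⟨l, hl⟩
  · have e : (r ^ l)⁻¹ * a * ((r ^ l)⁻¹)⁻¹ = a * j := by
      rw [inv_inv, hsq, hj, hl, two_mul]
    have hmem : a * j ∈ A := by
      rw [← e]
      refine hQ.strongly_closed hbig hC hTI hself _ ha ?_
      rw [e]
      refine hC a ha ha1 (mem_centralizer_singleton_iff.mpr ?_)
      rw [mul_assoc, ← haj]
    have hjA : j ∈ A := by simpa [← mul_assoc] using mul_mem (inv_mem ha) hmem
    have hc'H : c' ∈ normalizer (A : Set G) :=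
      hC j hjA hj1 (mem_centralizer_singleton_iff.mpr hc'j)
    exact hg (hTI g c hc hc1 (hQ.strongly_closed hbig hC hTI hself g hc hc'H))
  · have e : (r ^ (l + 1))⁻¹ * a * ((r ^ (l + 1))⁻¹)⁻¹ = c' * j := by
      rw [inv_inv, hsq, hj, hrc, mul_assoc, ← pow_succ', hl]
      congr 2
    have e' : g⁻¹ * (r ^ (l + 1))⁻¹ * a * (g⁻¹ * (r ^ (l + 1))⁻¹)⁻¹ = c * (g⁻¹ * j * g) := by
      calc _ = g⁻¹ * ((r ^ (l + 1))⁻¹ * a * ((r ^ (l + 1))⁻¹)⁻¹) * g := by group
        _ = _ := by rw [e, hc'def]; group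
    have hmem : c * (g⁻¹ * j * g) ∈ A := by
      rw [← e']
      refine hQ.strongly_closed hbig hC hTI hself _ ha ?_
      rw [e']
      refine hC c hc hc1 (mem_centralizer_singleton_iff.mpr ?_)
      calc c * (g⁻¹ * j * g) * c = c * (g⁻¹ * (j * c') * g) := by rw [hc'def]; group
        _ = c * (g⁻¹ * (c' * j) * g) := by rw [hc'j]
        _ = c * (c * (g⁻¹ * j * g)) := by rw [hc'def]; group
    have hjA : g⁻¹ * j * g ∈ A := by
      have := mul_mem (inv_mem hc) hmem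
      rwa [inv_mul_cancel_left] at this
    have hj'1 : g⁻¹ * j * g ≠ 1 := fun h => hj1 (by
      have := congrArg (fun x => g * x * g⁻¹) h
      simpa [mul_assoc] using this)
    have haH : g⁻¹ * a * g⁻¹⁻¹ ∈ normalizer (A : Set G) := by
      refine hC _ hjA hj'1 (mem_centralizer_singleton_iff.mpr ?_)
      calc g⁻¹ * a * g⁻¹⁻¹ * (g⁻¹ * j * g) = g⁻¹ * (a * j) * g := by group
        _ = g⁻¹ * (j * a) * g := by rw [haj]
        _ = g⁻¹ * j * g * (g⁻¹ * a * g⁻¹⁻¹) := by group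
    exact hgi (hTI g⁻¹ a ha ha1 (hQ.strongly_closed hbig hC hTI hself g⁻¹ ha haH))


theorem pol_self {a : G} (ha : a ∈ A) : pol q a a = 0 := by
  unfold pol
  rw [hQ.sq a ha, hQ.q_one, zero_add, CharTwo.add_self_eq_zero]

/-- The subgroup generated by a subgroup and one more element of `A`. -/
def adj (_hQ : Quad A q) (S : Subgroup G) (hS : S ≤ A) (c : G) (hc : c ∈ A) : Subgroup G where
  carrier := {x | x ∈ S ∨ c * x ∈ S}
  one_mem' := Or.inl S.one_mem
  mul_mem' {x y} hx hy := by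
    have hA : ∀ {x}, x ∈ S ∨ c * x ∈ S → x ∈ A := fun {x} h => h.elim (fun h => hS h) fun h => by
      simpa using mul_mem (inv_mem hc) (hS h)
    have hcx : c * x = x * c := _hQ.comm hc (hA hx)
    rcases hx with hx | hx <;> rcases hy with hy | hy
    · exact Or.inl (mul_mem hx hy)
    · exact Or.inr (by rw [← mul_assoc, hcx, mul_assoc]; exact mul_mem hx hy)
    · exact Or.inr (by rw [← mul_assoc]; exact mul_mem hx hy)
    · refine Or.inl ?_
      have h := mul_mem hx hy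
      rwa [hcx, mul_assoc, ← mul_assoc c, _hQ.sq c hc, one_mul] at h
  inv_mem' {x} hx := by
    have hA : x ∈ A := hx.elim (fun h => hS h) fun h => by
      simpa using mul_mem (inv_mem hc) (hS h)
    show x⁻¹ ∈ S ∨ c * x⁻¹ ∈ S
    rw [inv_eq_of_mul_eq_one_right (_hQ.sq x hA)]
    exact hx

theorem adj_le {S : Subgroup G} (hS : S ≤ A) {c : G} (hc : c ∈ A) : hQ.adj S hS c hc ≤ A :=
  fun _ h => Or.elim h (fun h => hS h) fun h => by simpa using mul_mem (inv_mem hc) (hS h)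

theorem le_adj {S : Subgroup G} (hS : S ≤ A) {c : G} (hc : c ∈ A) : S ≤ hQ.adj S hS c hc :=
  fun _ h => Or.inl h

theorem mem_adj {S : Subgroup G} (hS : S ≤ A) {c : G} (hc : c ∈ A) : c ∈ hQ.adj S hS c hc :=
  Or.inr (by rw [hQ.sq c hc]; exact S.one_mem)

theorem card_adj [Finite G] {S : Subgroup G} (hS : S ≤ A) {c : G} (hc : c ∈ A) :
    Nat.card (hQ.adj S hS c hc) ≤ 2 * Nat.card S := by
  have hsub : (hQ.adj S hS c hc : Set G) ⊆ (S : Set G) ∪ (fun x => c * x) '' (S : Set G) := by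
    rintro x (hx | hx)
    · exact Or.inl hx
    · exact Or.inr ⟨c * x, hx, by show c * (c * x) = x; rw [← mul_assoc, hQ.sq c hc, one_mul]⟩
  calc Nat.card (hQ.adj S hS c hc) = (hQ.adj S hS c hc : Set G).ncard := rfl
    _ ≤ ((S : Set G) ∪ (fun x => c * x) '' (S : Set G)).ncard :=
      Set.ncard_le_ncard hsub (Set.toFinite _)
    _ ≤ (S : Set G).ncard + ((fun x => c * x) '' (S : Set G)).ncard := Set.ncard_union_le _ _
    _ ≤ (S : Set G).ncard + (S : Set G).ncard :=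
      Nat.add_le_add_left (Set.ncard_image_le (Set.toFinite _)) _
    _ = 2 * Nat.card S := (two_mul _).symm

/-- A linear condition off `S` can be met orthogonally to `S`. -/
theorem exists_sep [Finite G] {S : Subgroup G} (hS : S ≤ A) {c : G} (hc : c ∈ A) (hcS : c ∉ S) :
    ∃ v ∈ hQ.perp S hS, pol q v c = 1 := by
  by_contra! h
  have h2 : ∀ x : ZMod 2, x ≠ 1 → x = 0 := by decide
  have hle : hQ.perp S hS ≤ hQ.perp (hQ.adj S hS c hc) (hQ.adj_le hS hc) := by
    intro v hv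
    refine ⟨hv.1, fun x hx => ?_⟩
    rcases hx with hx | hx
    · exact hv.2 x hx
    · have e : x = c * (c * x) := by rw [← mul_assoc, hQ.sq c hc, one_mul]
      rw [e, hQ.add_right hv.1 hc (hS hx), h2 _ (h v hv), hv.2 _ hx, zero_add]
  have hlt : Nat.card S < Nat.card (hQ.adj S hS c hc) := by
    refine lt_of_le_of_ne (Subgroup.card_le_of_le (hQ.le_adj hS hc)) fun e => ?_
    rw [Subgroup.eq_of_le_of_card_ge (hQ.le_adj hS hc) e.ge] at hcS
    exact hcS (hQ.mem_adj hS hc)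
  have h3 := hQ.card_perp hS
  have h4 := hQ.card_perp (hQ.adj_le hS hc)
  have h5 := Subgroup.card_le_of_le hle
  have h6 : 0 < Nat.card (hQ.perp (hQ.adj S hS c hc) (hQ.adj_le hS hc)) := Nat.card_pos
  have h7 := Nat.mul_le_mul_left (Nat.card S) h5
  have h8 := Nat.mul_lt_mul_of_pos_right hlt h6
  omega

/-- The orthogonal of a small subgroup contains a pair with product one. -/
theorem exists_pair [Finite G] {S : Subgroup G} (hS : S ≤ A)
    (h : Nat.card S ^ 2 < Nat.card A ∨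
      Nat.card S ^ 2 ≤ Nat.card A ∧ ∃ s ∈ S, ∃ s' ∈ S, pol q s s' ≠ 0) :
    ∃ y ∈ hQ.perp S hS, ∃ y' ∈ hQ.perp S hS, pol q y y' = 1 := by
  by_contra! h'
  have h2 : ∀ x : ZMod 2, x ≠ 1 → x = 0 := by decide
  set P := hQ.perp S hS with hP
  have hPA : P ≤ A := hQ.perp_le hS
  have hle : P ≤ hQ.perp P hPA := fun y hy => ⟨hy.1, fun y' hy' => h2 _ (h' y hy y' hy')⟩
  have hle' : S ≤ hQ.perp P hPA :=
    fun x hx => ⟨hS hx, fun y hy => by rw [hQ.pol_comm (hS hx) hy.1]; exact hy.2 x hx⟩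
  have h3 := hQ.card_perp hS
  have h4 := hQ.card_perp hPA
  rw [← hP] at h3
  have hpos : 0 < Nat.card P := Nat.card_pos
  have h5 : Nat.card (hQ.perp P hPA) = Nat.card S := by
    refine Nat.eq_of_mul_eq_mul_left hpos ?_
    rw [h4, ← h3, mul_comm]
  have h6 := Subgroup.eq_of_le_of_card_ge hle' h5.le
  have h7 := Subgroup.card_le_of_le hle
  rw [h5] at h7
  have h8 := Nat.mul_le_mul_left (Nat.card S) h7
  rw [← pow_two, h3] at h8
  rcases h with h | ⟨h, x, hx, x', hx', hne⟩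
  · omega
  · have h9 : P = S := by
      refine Subgroup.eq_of_le_of_card_ge (h6 ▸ hle) ?_
      rw [← h3, pow_two] at h
      exact Nat.le_of_mul_le_mul_left h Nat.card_pos
    rw [← h9] at hx
    exact hne (hx.2 x' hx')

/-- One of the four translates by a pair with product one is non-singular. -/
theorem exists_shift {v y y' : G} (hv : v ∈ A) (hy : y ∈ A) (hy' : y' ∈ A) (h : pol q y y' = 1) :
    q (v * y) = 1 ∨ q (v * y') = 1 ∨ q (v * (y * y')) = 1 ∨ q v = 1 := by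
  rw [hQ.q_mul hv hy, hQ.q_mul hv hy', hQ.q_mul hv (mul_mem hy hy'), hQ.q_mul hy hy',
    hQ.add_right hv hy hy', h]
  have : ∀ a b c u w : ZMod 2,
      a + b + u = 1 ∨ a + c + w = 1 ∨ a + (b + c + 1) + (u + w) = 1 ∨ a = 1 := by decide
  exact this _ _ _ _ _

/-- A non-singular element orthogonal to `S` with given product with `t`. -/
theorem exists_ns [Finite G] {S : Subgroup G} (hS : S ≤ A) {v : G} (hv : v ∈ hQ.perp S hS)
    {t : G} (ht : t ∈ A) (h : Nat.card (hQ.adj S hS t ht) ^ 2 < Nat.card A) :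
    ∃ w ∈ hQ.perp S hS, q w = 1 ∧ pol q w t = pol q v t := by
  obtain ⟨y, hy, y', hy', hyy⟩ := hQ.exists_pair (hQ.adj_le hS ht) (Or.inl h)
  have hsub : ∀ z ∈ hQ.perp (hQ.adj S hS t ht) (hQ.adj_le hS ht),
      z ∈ hQ.perp S hS ∧ pol q z t = 0 := fun z hz =>
    ⟨⟨hz.1, fun x hx => hz.2 x (hQ.le_adj hS ht hx)⟩, hz.2 t (hQ.mem_adj hS ht)⟩
  have hgen : ∀ z ∈ hQ.perp (hQ.adj S hS t ht) (hQ.adj_le hS ht), q (v * z) = 1 →
      ∃ w ∈ hQ.perp S hS, q w = 1 ∧ pol q w t = pol q v t := fun z hz e =>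
    ⟨v * z, mul_mem hv (hsub z hz).1, e, by
      rw [hQ.add v hv.1 z hz.1 t ht, (hsub z hz).2, add_zero]⟩
  rcases hQ.exists_shift hv.1 hy.1 hy'.1 hyy with e | e | e | e
  · exact hgen y hy e
  · exact hgen y' hy' e
  · exact hgen _ (mul_mem hy hy') e
  · exact ⟨v, hv, e, rfl⟩

/-- The products of two transvections supplied by the normaliser. -/
def HasTransvPairs (A : Subgroup G) (q : G → ZMod 2) : Prop :=
  ∀ v ∈ A, ∀ w ∈ A, q v = 1 → q w = 1 → ∃ h ∈ normalizer (A : Set G), ∀ x ∈ A, pol q x w = 0 →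
    (pol q x v = 0 → h * x * h⁻¹ = x) ∧ (pol q x v = 1 → h * x * h⁻¹ = x * v)

/-- The stabiliser of a singular element moves every orthogonal element around. -/
def SingIrred (A : Subgroup G) (q : G → ZMod 2) : Prop :=
  ∀ (I : Subgroup G) (b c : G), I ≤ A → b ∈ I → b ≠ 1 → q b = 0 → c ∈ I → c ≠ 1 → c ≠ b →
    (∀ x ∈ I, pol q x b = 0) →
    (∀ h ∈ normalizer (A : Set G), h * b * h⁻¹ = b → ∀ x ∈ I, h * x * h⁻¹ ∈ I) →
    ∀ x ∈ A, pol q x b = 0 → x ∈ I

/-- The stabiliser of an element orthogonal to a non-singular `t` moves `t` off its orthogonal. -/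
def NsMove (A : Subgroup G) (q : G → ZMod 2) : Prop :=
  ∀ t a : G, t ∈ A → q t = 1 → a ∈ A → a ≠ 1 → a ≠ t → pol q a t = 0 →
    ∃ h ∈ normalizer (A : Set G), h * a * h⁻¹ = a ∧ pol q (h * t * h⁻¹) t = 1

theorem nsMove [Finite G] (hbig : 256 ≤ Nat.card A) (htr : HasTransvPairs A q) : NsMove A q := by
  intro t a ht hqt ha ha1 hat hpa
  let S := hQ.adj ⊥ bot_le a ha
  have hS : S ≤ A := hQ.adj_le bot_le ha
  have hcS : Nat.card S ≤ 2 := (hQ.card_adj bot_le ha).trans (by simp)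
  have hc2 := hQ.card_adj hS ht
  have hsmall : Nat.card (hQ.adj S hS t ht) ^ 2 < Nat.card A := by
    have := Nat.pow_le_pow_left (show Nat.card (hQ.adj S hS t ht) ≤ 4 by omega) 2
    omega
  have htS : t ∉ S := by
    rintro (h | h)
    · rw [Subgroup.mem_bot] at h; rw [h, hQ.q_one] at hqt; exact zero_ne_one hqt
    · rw [Subgroup.mem_bot] at h
      exact hat (by rw [eq_inv_of_mul_eq_one_left h, inv_eq_of_mul_eq_one_right (hQ.sq t ht)])
  obtain ⟨v₀, hv₀, hv₀t⟩ := hQ.exists_sep hS ht htS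
  obtain ⟨v, hv, hqv, hvt⟩ := hQ.exists_ns hS hv₀ ht hsmall
  obtain ⟨w, hw, hqw, hwt⟩ := hQ.exists_ns hS (one_mem _) ht hsmall
  rw [hQ.pol_one ht] at hwt
  rw [hv₀t] at hvt
  obtain ⟨h, hh, hact⟩ := htr v hv.1 w hw.1 hqv hqw
  have haS : a ∈ S := hQ.mem_adj bot_le ha
  refine ⟨h, hh, (hact a ha (by rw [hQ.pol_comm ha hw.1]; exact hw.2 a haS)).1
    (by rw [hQ.pol_comm ha hv.1]; exact hv.2 a haS), ?_⟩
  rw [(hact t ht (by rw [hQ.pol_comm ht hw.1, hwt])).2 (by rw [hQ.pol_comm ht hv.1, hvt]),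
    hQ.add t ht v hv.1 t ht, hQ.pol_self ht, hvt, zero_add]

theorem singIrred [Finite G] (hbig : 256 ≤ Nat.card A) (htr : HasTransvPairs A q) :
    SingIrred A q := by
  intro I b c hIA hbI hb1 hqb hcI hc1 hcb horth hinv
  have hb := hIA hbI
  have hc := hIA hcI
  let S := hQ.adj ⊥ bot_le b hb
  have hS : S ≤ A := hQ.adj_le bot_le hb
  have hcS : Nat.card S ≤ 2 := (hQ.card_adj bot_le hb).trans (by simp)
  let T := hQ.adj S hS c hc
  have hT : T ≤ A := hQ.adj_le hS hc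
  have hcT : Nat.card T ≤ 4 := (hQ.card_adj hS hc).trans (by omega)
  have hsmall : Nat.card T ^ 2 < Nat.card A := by
    have := Nat.pow_le_pow_left hcT 2
    omega
  have hbS : b ∈ S := hQ.mem_adj bot_le hb
  have hbT : b ∈ T := hQ.le_adj hS hc hbS
  have hcmT : c ∈ T := hQ.mem_adj hS hc
  have hnc : c ∉ S := by
    rintro (h | h)
    · exact hc1 (Subgroup.mem_bot.mp h)
    · rw [Subgroup.mem_bot] at h
      exact hcb (by rw [eq_inv_of_mul_eq_one_right h, inv_eq_of_mul_eq_one_right (hQ.sq b hb)])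
  have hperpS : ∀ x ∈ A, pol q x b = 0 → x ∈ hQ.perp S hS := by
    intro x hx hxb
    refine ⟨hx, fun s hs => ?_⟩
    rcases hs with hs | hs
    · rw [Subgroup.mem_bot.mp hs, hQ.pol_comm hx A.one_mem, hQ.pol_one hx]
    · rw [Subgroup.mem_bot] at hs
      rw [eq_inv_of_mul_eq_one_right hs, inv_eq_of_mul_eq_one_right (hQ.sq b hb), hxb]
  -- non-singular elements with product one with `c`
  obtain ⟨w, hw, hqw, hwc⟩ := hQ.exists_ns hS (one_mem _) hc hsmall
  rw [hQ.pol_one hc] at hwc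
  have hns : ∀ x ∈ A, pol q x b = 0 → pol q x c = 1 → q x = 1 → x ∈ I := by
    intro x hx hxb hxc hqx
    obtain ⟨h, hh, hact⟩ := htr x hx w hw.1 hqx hqw
    have e1 : h * b * h⁻¹ = b := (hact b hb (by rw [hQ.pol_comm hb hw.1]; exact hw.2 b hbS)).1
      (by rw [hQ.pol_comm hb hx, hxb])
    have e2 := (hact c hc (by rw [hQ.pol_comm hc hw.1, hwc])).2 (by rw [hQ.pol_comm hc hx, hxc])
    have e3 := mul_mem (inv_mem hcI) (e2 ▸ hinv h hh e1 c hcI)
    rwa [inv_mul_cancel_left] at e3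
  obtain ⟨y, hy, y', hy', hyy⟩ := hQ.exists_pair hT (Or.inl hsmall)
  let U := hQ.adj T hT y hy.1
  have hU : U ≤ A := hQ.adj_le hT hy.1
  let W := hQ.adj U hU y' hy'.1
  have hW : W ≤ A := hQ.adj_le hU hy'.1
  have hcW : Nat.card W ≤ 16 := by
    have h1 : Nat.card U ≤ 2 * Nat.card T := hQ.card_adj hT hy.1
    have h2 : Nat.card W ≤ 2 * Nat.card U := hQ.card_adj hU hy'.1
    omega
  have hyW : y ∈ W := hQ.le_adj hU hy'.1 (hQ.mem_adj hT hy.1)
  have hy'W : y' ∈ W := hQ.mem_adj hU hy'.1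
  have hTW : ∀ x ∈ T, x ∈ W := fun x hx => hQ.le_adj hU hy'.1 (hQ.le_adj hT hy.1 hx)
  obtain ⟨z, hz, z', hz', hzz⟩ := hQ.exists_pair hW (Or.inr ⟨by
    have := Nat.pow_le_pow_left hcW 2
    omega, y, hyW, y', hy'W, by rw [hyy]; exact one_ne_zero⟩)
  -- translates
  have hsum : ∀ x ∈ A, pol q x b = 0 → pol q x c = 1 → ∀ u ∈ hQ.perp T hT,
      x * u ∈ A ∧ pol q (x * u) b = 0 ∧ pol q (x * u) c = 1 := by
    intro x hx hxb hxc u hu
    refine ⟨mul_mem hx hu.1, ?_, ?_⟩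
    · rw [hQ.add x hx u hu.1 b hb, hxb, hu.2 b hbT, add_zero]
    · rw [hQ.add x hx u hu.1 c hc, hxc, hu.2 c hcmT, add_zero]
  have hzT : ∀ u ∈ hQ.perp W hW, u ∈ hQ.perp T hT :=
    fun u hu => ⟨hu.1, fun x hx => hu.2 x (hTW x hx)⟩
  obtain ⟨v₀, hv₀, hv₀c⟩ := hQ.exists_sep hS hc hnc
  -- a translate with three non-singular values
  have hsh : ∀ x ∈ A, ∀ u ∈ hQ.perp W hW, pol q y u = 0 ∧ pol q y' u = 0 ∧
      pol q (y * y') u = 0 := by
    intro x _ u hu
    rw [hQ.pol_comm hy.1 hu.1, hQ.pol_comm hy'.1 hu.1, hQ.pol_comm (mul_mem hy.1 hy'.1) hu.1]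
    exact ⟨hu.2 y hyW, hu.2 y' hy'W, hu.2 _ (mul_mem hyW hy'W)⟩
  have hflip : ∀ x ∈ A, q x + q (x * y) + q (x * y') + q (x * (y * y')) = 1 := by
    intro x hx
    rw [hQ.q_mul hx hy.1, hQ.q_mul hx hy'.1, hQ.q_mul hx (mul_mem hy.1 hy'.1),
      hQ.q_mul hy.1 hy'.1, hQ.add_right hx hy.1 hy'.1, hyy]
    have : ∀ a b c u w : ZMod 2,
        a + (a + b + u) + (a + c + w) + (a + (b + c + 1) + (u + w)) = 1 := by decide
    exact this _ _ _ _ _
  obtain ⟨x, hx, hxb, hxc, hthree⟩ : ∃ x ∈ A, pol q x b = 0 ∧ pol q x c = 1 ∧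
      ¬ ((q x = 0 ∧ q (x * y) = 0) ∨ (q x = 0 ∧ q (x * y') = 0) ∨
        (q x = 0 ∧ q (x * (y * y')) = 0) ∨ (q (x * y) = 0 ∧ q (x * y') = 0) ∨
        (q (x * y) = 0 ∧ q (x * (y * y')) = 0) ∨ (q (x * y') = 0 ∧ q (x * (y * y')) = 0)) := by
    have hdec : ∀ a b c d : ZMod 2, a + b + c + d = 1 → ((a = 0 ∧ b = 0) ∨ (a = 0 ∧ c = 0) ∨
        (a = 0 ∧ d = 0) ∨ (b = 0 ∧ c = 0) ∨ (b = 0 ∧ d = 0) ∨ (c = 0 ∧ d = 0)) →
        ¬ ((a + 1 = 0 ∧ b + 1 = 0) ∨ (a + 1 = 0 ∧ c + 1 = 0) ∨ (a + 1 = 0 ∧ d + 1 = 0) ∨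
          (b + 1 = 0 ∧ c + 1 = 0) ∨ (b + 1 = 0 ∧ d + 1 = 0) ∨ (c + 1 = 0 ∧ d + 1 = 0)) := by
      decide
    by_contra! hall
    have h0 := hall v₀ hv₀.1 (hv₀.2 b hbS) hv₀c
    -- a translate by an element changing all four values
    have : ∀ u ∈ hQ.perp W hW, q u + pol q v₀ u ≠ 1 := by
      intro u hu hu1
      obtain ⟨hA', hb', hc'⟩ := hsum v₀ hv₀.1 (hv₀.2 b hbS) hv₀c u (hzT u hu)
      obtain ⟨k1, k2, k3⟩ := hsh v₀ hv₀.1 u hu
      have e0 : q (v₀ * u) = q v₀ + 1 := by rw [hQ.q_mul hv₀.1 hu.1, add_assoc, hu1]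
      have e : ∀ s ∈ A, pol q s u = 0 → q (v₀ * u * s) = q (v₀ * s) + 1 := by
        intro s hs hsu
        rw [mul_assoc, hQ.comm hu.1 hs, ← mul_assoc, hQ.q_mul (mul_mem hv₀.1 hs) hu.1,
          hQ.add v₀ hv₀.1 s hs u hu.1, hsu, add_zero, add_assoc, hu1]
      have h1 := hall (v₀ * u) hA' hb' hc'
      rw [e0, e y hy.1 k1, e y' hy'.1 k2, e _ (mul_mem hy.1 hy'.1) k3] at h1
      exact hdec _ _ _ _ (hflip v₀ hv₀.1) h0 h1
    have h1 := this z hz
    have h2 := this z' hz'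
    have h3 := this _ (mul_mem hz hz')
    rw [hQ.q_mul hz.1 hz'.1, hQ.add_right hv₀.1 hz.1 hz'.1, hzz] at h3
    have hd : ∀ a b u w : ZMod 2, a + u ≠ 1 → b + w ≠ 1 → a + b + 1 + (u + w) ≠ 1 → False := by
      decide
    exact hd _ _ _ _ h1 h2 h3
  push Not at hthree
  have h01 : ∀ a : ZMod 2, a ≠ 0 → a = 1 := by decide
  have hxy : ∀ u ∈ hQ.perp T hT, q (x * u) ≠ 0 → x * u ∈ I := fun u hu e => by
    obtain ⟨k1, k2, k3⟩ := hsum x hx hxb hxc u hu
    exact hns _ k1 k2 k3 (h01 _ e)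
  have hyT : y ∈ hQ.perp T hT := hy
  have hdiv : ∀ u u', u ∈ A → u' ∈ A → x * u ∈ I → x * u' ∈ I → u * u' ∈ I := by
    intro u u' hu hu' h h'
    have e : x * u * (x * u') = u * u' := by
      rw [hQ.comm hx hu, mul_assoc, ← mul_assoc x x, hQ.sq x hx, one_mul]
    exact e ▸ mul_mem h h'
  have hyI : y ∈ I ∧ y' ∈ I := by
    by_cases h0 : q x = 0
    · have a1 := hxy y hy (hthree.1 h0)
      have a2 := hxy y' hy' (hthree.2.1 h0)
      have a3 := hxy _ (mul_mem hy hy') (hthree.2.2.1 h0)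
      have b1 := hdiv _ _ hy'.1 (mul_mem hy.1 hy'.1) a2 a3
      have b2 := hdiv _ _ hy.1 (mul_mem hy.1 hy'.1) a1 a3
      rw [hQ.comm hy.1 hy'.1, ← mul_assoc, hQ.sq y' hy'.1, one_mul] at b1
      rw [← mul_assoc, hQ.sq y hy.1, one_mul] at b2
      exact ⟨b1, b2⟩
    · have hxI : x ∈ I := hns x hx hxb hxc (h01 _ h0)
      have hx1 : ∀ u ∈ hQ.perp T hT, q (x * u) ≠ 0 → u ∈ I := fun u hu e => by
        have := mul_mem (inv_mem hxI) (hxy u hu e)
        rwa [inv_mul_cancel_left] at this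
      by_cases h1 : q (x * y) = 0
      · have a2 := hx1 y' hy' (hthree.2.2.2.1 h1)
        have a3 := hx1 _ (mul_mem hy hy') (hthree.2.2.2.2.1 h1)
        refine ⟨?_, a2⟩
        have := mul_mem a3 (inv_mem a2)
        rwa [mul_inv_cancel_right] at this
      · have a1 := hx1 y hy h1
        refine ⟨a1, ?_⟩
        by_cases h2 : q (x * y') = 0
        · have a3 := hx1 _ (mul_mem hy hy') (hthree.2.2.2.2.2 h2)
          have := mul_mem (inv_mem a1) a3
          rwa [inv_mul_cancel_left] at this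
        · exact hx1 y' hy' h2
  have hL : ∀ v ∈ A, pol q v b = 0 → pol q v c = 1 → v ∈ I := by
    intro v hv hvb hvc
    have hgen : ∀ u ∈ hQ.perp T hT, u ∈ I → q (v * u) = 1 → v ∈ I := fun u hu huI e => by
      obtain ⟨k1, k2, k3⟩ := hsum v hv hvb hvc u hu
      have := mul_mem (hns _ k1 k2 k3 e) (inv_mem huI)
      rwa [mul_inv_cancel_right] at this
    rcases hQ.exists_shift hv hy.1 hy'.1 hyy with e | e | e | e
    · exact hgen y hy hyI.1 e
    · exact hgen y' hy' hyI.2 e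
    · exact hgen _ (mul_mem hy hy') (mul_mem hyI.1 hyI.2) e
    · exact hns v hv hvb hvc e
  intro v hv hvb
  have h2 : ∀ a : ZMod 2, a = 0 ∨ a = 1 := by decide
  rcases h2 (pol q v c) with e | e
  · have k : v * v₀ ∈ I := by
      refine hL _ (mul_mem hv hv₀.1) ?_ ?_
      · rw [hQ.add v hv v₀ hv₀.1 b hb, hvb, hv₀.2 b hbS, add_zero]
      · rw [hQ.add v hv v₀ hv₀.1 c hc, e, hv₀c, zero_add]
    have := mul_mem k (inv_mem (hL v₀ hv₀.1 (hv₀.2 b hbS) hv₀c))
    rwa [mul_inv_cancel_right] at this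
  · exact hL v hv hvb e

/-- Distinct conjugates of `A` meet trivially. -/
theorem ti [Finite G] (hbig : 4 < Nat.card A)
    (hC : ∀ a ∈ A, a ≠ 1 → centralizer {a} ≤ normalizer (A : Set G))
    (hself : normalizer (A : Set G) ⊓ centralizer A ≤ A)
    (hirr : SingIrred A q) (hmove : NsMove A q)
    (g a : G) (ha : a ∈ A) (ha1 : a ≠ 1) (hga : g * a * g⁻¹ ∈ A) :
    g ∈ normalizer (A : Set G) := by
  by_contra hg
  let I : Subgroup G := A ⊓ A.comap (MulAut.conj g⁻¹).toMonoidHom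
  have hI : ∀ {x}, x ∈ I ↔ x ∈ A ∧ g⁻¹ * x * g ∈ A := by intro x; simp [I]
  set b₀ := g * a * g⁻¹ with hb₀
  have hb₀I : b₀ ∈ I := hI.mpr ⟨hga, by rw [hb₀]; group; simpa using ha⟩
  have hb₀1 : b₀ ≠ 1 := fun e => ha1 (by simpa [hb₀] using e)
  -- centralisers of elements of `I` normalise both groups
  have hCI : ∀ x ∈ I, x ≠ 1 → ∀ h, h * x * h⁻¹ = x →
      h ∈ normalizer (A : Set G) ∧ g⁻¹ * h * g ∈ normalizer (A : Set G) := by
    intro x hx hx1 h e
    have e' : h * x = x * h := mul_inv_eq_iff_eq_mul.mp e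
    obtain ⟨hxA, hx'⟩ := hI.mp hx
    refine ⟨hC x hxA hx1 (mem_centralizer_singleton_iff.mpr e'),
      hC _ hx' (fun h0 => hx1 ?_) (mem_centralizer_singleton_iff.mpr ?_)⟩
    · have := congrArg (fun y => g * y * g⁻¹) h0
      simpa [mul_assoc] using this
    · calc g⁻¹ * h * g * (g⁻¹ * x * g) = g⁻¹ * (h * x) * g := by group
        _ = g⁻¹ * (x * h) * g := by rw [e']
        _ = g⁻¹ * x * g * (g⁻¹ * h * g) := by group
  have hIinv : ∀ x ∈ I, x ≠ 1 → ∀ h, h * x * h⁻¹ = x → ∀ u ∈ I, h * u * h⁻¹ ∈ I := by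
    intro x hx hx1 h e u hu
    obtain ⟨h1, h2⟩ := hCI x hx hx1 h e
    obtain ⟨huA, hu'⟩ := hI.mp hu
    refine hI.mpr ⟨(mem_normalizer_iff.mp h1 u).mp huA, ?_⟩
    rw [show g⁻¹ * (h * u * h⁻¹) * g = g⁻¹ * h * g * (g⁻¹ * u * g) * (g⁻¹ * h * g)⁻¹ by group]
    exact (mem_normalizer_iff.mp h2 _).mp hu'
  -- the displacements
  let D : G → G → G := fun a' x => x * (g * a' * g⁻¹ * x * (g * a' * g⁻¹)⁻¹)
  have hfix : ∀ a' ∈ A, ∀ u ∈ I, g * a' * g⁻¹ * u * (g * a' * g⁻¹)⁻¹ = u := by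
    intro a' ha' u hu
    obtain ⟨-, hu'⟩ := hI.mp hu
    calc g * a' * g⁻¹ * u * (g * a' * g⁻¹)⁻¹ = g * (a' * (g⁻¹ * u * g) * a'⁻¹) * g⁻¹ := by group
      _ = g * (g⁻¹ * u * g) * g⁻¹ := by rw [hQ.comm ha' hu', mul_inv_cancel_right]
      _ = u := by group
  have hN : ∀ a' ∈ A, g * a' * g⁻¹ ∈ normalizer (A : Set G) :=
    fun a' ha' => (hCI b₀ hb₀I hb₀1 _ (hfix a' ha' b₀ hb₀I)).1
  have hDI : ∀ a' ∈ A, ∀ x ∈ A, D a' x ∈ I := by
    intro a' ha' x hx
    refine hI.mpr ⟨mul_mem hx ((mem_normalizer_iff.mp (hN a' ha') x).mp hx), ?_⟩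
    have hxN : g⁻¹ * x * g ∈ normalizer (A : Set G) :=
      (hCI b₀ hb₀I hb₀1 x (by rw [hQ.comm hx hga, mul_inv_cancel_right])).2
    have hxi : x⁻¹ = x := inv_eq_of_mul_eq_one_right (hQ.sq x hx)
    show g⁻¹ * (x * (g * a' * g⁻¹ * x * (g * a' * g⁻¹)⁻¹)) * g ∈ A
    have key : g⁻¹ * x * g * a' * (g⁻¹ * x * g)⁻¹ * a'⁻¹ ∈ A :=
      mul_mem ((mem_normalizer_iff.mp hxN a').mp ha') (inv_mem ha')
    rw [mul_inv_rev, mul_inv_rev, inv_inv, hxi] at key
    simpa [mul_assoc] using key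
  have hDperp : ∀ a' ∈ A, ∀ x ∈ A, ∀ u ∈ I, pol q (D a' x) u = 0 := by
    intro a' ha' x hx u hu
    have huA := (hI.mp hu).1
    show pol q (x * (g * a' * g⁻¹ * x * (g * a' * g⁻¹)⁻¹)) u = 0
    rw [hQ.add x hx _ ((mem_normalizer_iff.mp (hN a' ha') x).mp hx) u huA]
    conv_lhs => arg 2; rw [← hfix a' ha' u hu, hQ.pol_inv (hN a' ha') hx huA]
    exact CharTwo.add_self_eq_zero _
  have hDq : ∀ a' ∈ A, ∀ x ∈ A, q (D a' x) = pol q x (D a' x) := by
    intro a' ha' x hx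
    have hex := (mem_normalizer_iff.mp (hN a' ha') x).mp hx
    show q (x * (g * a' * g⁻¹ * x * (g * a' * g⁻¹)⁻¹)) = pol q x _
    rw [hQ.add_right hx hx hex, hQ.pol_self hx, zero_add, hQ.q_mul hx hex,
      hQ.inv _ (hN a' ha') x hx, CharTwo.add_self_eq_zero, zero_add]
  have hDone : ∀ a' ∈ A, ∀ x ∈ A, (∀ u ∈ I, pol q x u = 0) → D a' x = 1 := by
    intro a' ha' x hx hxI
    by_contra hne
    obtain ⟨y, hy, hy1⟩ := hQ.nondeg _ ((hI.mp (hDI a' ha' x hx)).1) hne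
    apply hy1
    have heN := hN a' ha'
    have hex := (mem_normalizer_iff.mp heN x).mp hx
    have hey := (mem_normalizer_iff.mp heN y).mp hy
    have hd : g * a' * g⁻¹ * y * (g * a' * g⁻¹)⁻¹ = y * D a' y := by
      show _ = y * (y * _)
      rw [← mul_assoc, hQ.sq y hy, one_mul]
    have hdI := hDI a' ha' y hy
    have k1 := hQ.pol_inv heN hx hy
    rw [hd, hQ.add_right hex hy (hI.mp hdI).1] at k1
    have k2 := hQ.pol_inv heN hx (hI.mp hdI).1
    rw [hfix a' ha' _ hdI, hxI _ hdI] at k2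
    rw [k2, add_zero] at k1
    show pol q (x * (g * a' * g⁻¹ * x * (g * a' * g⁻¹)⁻¹)) y = 0
    rw [hQ.add x hx _ hex y hy, k1, CharTwo.add_self_eq_zero]
  -- some element moves
  obtain ⟨a₁, ha₁, x₁, hx₁, hne⟩ : ∃ a' ∈ A, ∃ x ∈ A, D a' x ≠ 1 := by
    by_contra! h
    apply hg
    have hle : A.map (MulAut.conj g).toMonoidHom ≤ A := by
      rintro _ ⟨a', ha', rfl⟩
      refine hself ⟨hN a' ha', fun x hx => ?_⟩
      have hd := h a' ha' x hx
      show x * (g * a' * g⁻¹) = g * a' * g⁻¹ * x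
      have h2 : g * a' * g⁻¹ * x * (g * a' * g⁻¹)⁻¹ = x := by
        rw [eq_inv_of_mul_eq_one_right hd, inv_eq_of_mul_eq_one_right (hQ.sq x hx)]
      exact (mul_inv_eq_iff_eq_mul.mp h2).symm
    exact Subgroup.mem_normalizer_fintype fun n hn => hle ⟨n, hn, rfl⟩
  by_cases hsing : ∃ b ∈ I, b ≠ 1 ∧ q b = 0 ∧ ∀ u ∈ I, pol q b u = 0
  · obtain ⟨b, hbI, hb1, hqb, hbperp⟩ := hsing
    have hbA := (hI.mp hbI).1
    have hxb : ∀ u ∈ I, pol q u b = 0 :=
      fun u hu => by rw [hQ.pol_comm (hI.mp hu).1 hbA]; exact hbperp u hu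
    by_cases hc : ∃ c ∈ I, c ≠ 1 ∧ c ≠ b
    · obtain ⟨c, hcI, hc1, hcb⟩ := hc
      have hfull := hirr I b c inf_le_left hbI hb1 hqb hcI hc1 hcb hxb
        fun h _ e => hIinv b hbI hb1 h e
      -- the displacement lies in the radical `{1, b}`
      have hdI := hDI a₁ ha₁ x₁ hx₁
      have hdA := (hI.mp hdI).1
      have hdb : D a₁ x₁ = b := by
        by_contra hdb
        obtain ⟨v, hv, hv1⟩ := hQ.exists_sep (hQ.adj_le bot_le hbA) hdA (fun h => by
          rcases h with h | h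
          · exact hne (Subgroup.mem_bot.mp h)
          · rw [Subgroup.mem_bot] at h
            exact hdb (by rw [eq_inv_of_mul_eq_one_right h,
              inv_eq_of_mul_eq_one_right (hQ.sq b hbA)]))
        have hvI := hfull v hv.1 (hv.2 b (hQ.mem_adj bot_le hbA))
        rw [hQ.pol_comm hv.1 hdA, hDperp a₁ ha₁ x₁ hx₁ v hvI] at hv1
        exact zero_ne_one hv1
      have hx1I : x₁ ∈ I := by
        refine hfull x₁ hx₁ ?_
        have := hDq a₁ ha₁ x₁ hx₁
        rw [hdb, hqb] at this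
        exact this.symm
      apply hne
      show x₁ * (g * a₁ * g⁻¹ * x₁ * (g * a₁ * g⁻¹)⁻¹) = 1
      rw [hfix a₁ ha₁ x₁ hx1I, hQ.sq x₁ hx₁]
    · push Not at hc
      have hdI := hDI a₁ ha₁ x₁ hx₁
      have hdb := hc _ hdI hne
      apply hne
      refine hDone a₁ ha₁ x₁ hx₁ fun u hu => ?_
      rcases eq_or_ne u 1 with rfl | hu1
      · rw [hQ.pol_comm hx₁ A.one_mem, hQ.pol_one hx₁]
      · have := hDq a₁ ha₁ x₁ hx₁
        rw [hdb, hqb] at this
        rw [hc u hu hu1, ← this]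
  · push Not at hsing
    have h01 : ∀ a : ZMod 2, a ≠ 0 → a = 1 := by decide
    have hrad : ∀ u ∈ I, u ≠ 1 → (∀ w ∈ I, pol q u w = 0) → q u = 1 := by
      intro u hu hu1 hperp
      refine h01 _ fun h0 => ?_
      obtain ⟨w, hw, hw'⟩ := hsing u hu hu1 h0
      exact hw' (hperp w hw)
    set t := D a₁ x₁ with ht
    have htI : t ∈ I := hDI a₁ ha₁ x₁ hx₁
    have htA := (hI.mp htI).1
    have htperp : ∀ w ∈ I, pol q t w = 0 := hDperp a₁ ha₁ x₁ hx₁
    have hqt := hrad t htI hne htperp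
    -- every displacement is trivial or `t`
    have honly : ∀ a' ∈ A, ∀ x ∈ A, D a' x = 1 ∨ D a' x = t := by
      intro a' ha' x hx
      by_contra! h
      have hdI := hDI a' ha' x hx
      have hdA := (hI.mp hdI).1
      have hdp := hDperp a' ha' x hx
      have hqd := hrad _ hdI h.1 hdp
      have := hrad (D a' x * t) (mul_mem hdI htI) (fun e => h.2 (by
        rw [eq_inv_of_mul_eq_one_left e, inv_eq_of_mul_eq_one_right (hQ.sq t htA)]))
        fun w hw => by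
          rw [hQ.add _ hdA t htA w (hI.mp hw).1, hdp w hw, htperp w hw, add_zero]
      rw [hQ.q_mul hdA htA, hqd, hqt, hdp t htI, add_zero, CharTwo.add_self_eq_zero] at this
      exact zero_ne_one this
    -- some further element of `I`
    obtain ⟨a₂, ha₂I, ha₂1, ha₂t⟩ : ∃ u ∈ I, u ≠ 1 ∧ u ≠ t := by
      by_contra! hsmall
      -- an element acting trivially lies in `I`
      have hker : ∀ a' ∈ A, D a' x₁ = 1 → g * a' * g⁻¹ ∈ I := by
        intro a' ha' h1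
        refine hI.mpr ⟨hself ⟨hN a' ha', fun x hx => ?_⟩,
          by rw [show g⁻¹ * (g * a' * g⁻¹) * g = a' by group]; exact ha'⟩
        have hall : ∀ x ∈ A, D a' x = 1 := by
          intro x hx
          rcases honly a' ha' x hx with e | e
          · exact e
          have hp := hDq a' ha' x hx
          rw [e, hqt] at hp
          have hp1 := hDq a₁ ha₁ x₁ hx₁
          rw [← ht, hqt] at hp1
          have hxx : pol q (x * x₁) t = 0 := by
            rw [hQ.add x hx x₁ hx₁ t htA, ← hp, ← hp1, CharTwo.add_self_eq_zero]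
          have h2 : D a' (x * x₁) = 1 := by
            rcases honly a' ha' (x * x₁) (mul_mem hx hx₁) with e2 | e2
            · exact e2
            · have := hDq a' ha' (x * x₁) (mul_mem hx hx₁)
              rw [e2, hqt, hxx] at this
              exact absurd this one_ne_zero
          have hmul : D a' (x * x₁) = D a' x * D a' x₁ := by
            show _ = x * (g * a' * g⁻¹ * x * (g * a' * g⁻¹)⁻¹) * (x₁ * _)
            rw [mul_assoc x (g * a' * g⁻¹ * x * _), ← mul_assoc _ x₁,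
              hQ.comm ((mem_normalizer_iff.mp (hN a' ha') x).mp hx) hx₁]
            show x * x₁ * _ = _
            group
          rw [hmul, h1, mul_one] at h2
          exact h2
        have h2 : g * a' * g⁻¹ * x * (g * a' * g⁻¹)⁻¹ = x := by
          rw [eq_inv_of_mul_eq_one_right (hall x hx), inv_eq_of_mul_eq_one_right (hQ.sq x hx)]
        exact (mul_inv_eq_iff_eq_mul.mp h2).symm
      -- so `A` is covered by few elements
      have hcov : (A : Set G) ⊆ {1, g⁻¹ * t * g, a₁, g⁻¹ * t * g * a₁} := by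
        intro a' ha'
        have key : ∀ a' ∈ A, D a' x₁ = 1 → a' = 1 ∨ a' = g⁻¹ * t * g := by
          intro a' ha' h1
          rcases eq_or_ne (g * a' * g⁻¹) 1 with e | e
          · exact Or.inl (by simpa using e)
          · exact Or.inr (by rw [← hsmall _ (hker a' ha' h1) e]; group)
        rcases honly a' ha' x₁ hx₁ with e | e
        · rcases key a' ha' e with k | k <;> simp [k]
        · have h1 : D (a' * a₁) x₁ = 1 := by
            have hd : ∀ a'' ∈ A, D a'' x₁ = t →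
                g * a'' * g⁻¹ * x₁ * (g * a'' * g⁻¹)⁻¹ = x₁ * t := by
              intro a'' _ h
              rw [← h]
              show _ = x₁ * (x₁ * _)
              rw [← mul_assoc x₁ x₁, hQ.sq x₁ hx₁, one_mul]
            show x₁ * (g * (a' * a₁) * g⁻¹ * x₁ * (g * (a' * a₁) * g⁻¹)⁻¹) = 1
            rw [show g * (a' * a₁) * g⁻¹ * x₁ * (g * (a' * a₁) * g⁻¹)⁻¹ =
              g * a' * g⁻¹ * (g * a₁ * g⁻¹ * x₁ * (g * a₁ * g⁻¹)⁻¹) * (g * a' * g⁻¹)⁻¹ by group,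
              hd a₁ ha₁ rfl, conj_mul.symm, hd a' ha' e, hfix a' ha' t htI, mul_assoc x₁ t,
              hQ.sq t htA, mul_one, hQ.sq x₁ hx₁]
          have ea : a' = a' * a₁ * a₁ := by rw [mul_assoc, hQ.sq a₁ ha₁, mul_one]
          rcases key _ (mul_mem ha' ha₁) h1 with k | k <;> rw [ea, k] <;> simp
      have h4 : Nat.card A ≤ 4 := by
        calc Nat.card A = (A : Set G).ncard := rfl
          _ ≤ ({1, g⁻¹ * t * g, a₁, g⁻¹ * t * g * a₁} : Set G).ncard :=
            Set.ncard_le_ncard hcov (Set.toFinite _)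
          _ ≤ 4 := by
            refine (Set.ncard_insert_le _ _).trans (Nat.succ_le_succ ?_)
            refine (Set.ncard_insert_le _ _).trans (Nat.succ_le_succ ?_)
            refine (Set.ncard_insert_le _ _).trans (Nat.succ_le_succ ?_)
            rw [Set.ncard_singleton]
      omega
    obtain ⟨h, hh, hha, hht⟩ := hmove t a₂ htA hqt (hI.mp ha₂I).1 ha₂1 ha₂t
      (by rw [hQ.pol_comm (hI.mp ha₂I).1 htA]; exact htperp a₂ ha₂I)
    have hmem := hIinv a₂ ha₂I ha₂1 h hha t htI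
    rw [hQ.pol_comm (hI.mp hmem).1 htA, htperp _ hmem] at hht
    exact zero_ne_one hht

/-- The fusion theorem. -/
theorem eq_top_of_transvPairs [Finite G] (hbig : 256 ≤ Nat.card A)
    (hC : ∀ a ∈ A, a ≠ 1 → centralizer {a} ≤ normalizer (A : Set G))
    (hself : normalizer (A : Set G) ⊓ centralizer A ≤ A) (htr : HasTransvPairs A q)
    {a c : G} (ha : a ∈ A) (ha1 : a ≠ 1) (hqa : q a = 0) (hc : c ∈ A) (hqc : q c = 1) :
    normalizer (A : Set G) = ⊤ :=
  hQ.eq_top (by omega) hC (hQ.ti (by omega) hC hself (hQ.singIrred hbig htr) (hQ.nsMove hbig htr))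
    hself ha ha1 hqa hc hqc

end Quad

end Cfsg.Agent.Lib.SympFusion78
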